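import Cfsg.Agent.Lib.PermGp.DihedralRing.Ring

/-!
An abstract primitive Schur ring over a generalised dihedral group whose elements are symmetric.
-/

set_option autoImplicit false
set_option linter.all false

namespace Cfsg.Agent.PermGp.DihedralRing

open MonoidAlgebra

variable {C : Type*} [CommGroup C]

/-- The coefficient function on the dihedral group. -/
def co (x : Matrix (Fin 2) (Fin 2) (MonoidAlgebra ℤ C)) : C ⊕ C → ℤ :=
  Sum.elim (fun c => (x 0 0).coeff c) (fun c => (x 0 1).coeff c)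

@[simp] theorem co_inl (x : Matrix (Fin 2) (Fin 2) (MonoidAlgebra ℤ C)) (c : C) :
    co x (.inl c) = (x 0 0).coeff c := rfl

@[simp] theorem co_inr (x : Matrix (Fin 2) (Fin 2) (MonoidAlgebra ℤ C)) (c : C) :
    co x (.inr c) = (x 0 1).coeff c := rfl

/-- A primitive symmetric Schur ring. -/
structure SRing (C : Type*) [CommGroup C] [Fintype C] where
  M : Subring (Matrix (Fin 2) (Fin 2) (MonoidAlgebra ℤ C))
  sym : ∀ x ∈ M, Sym x
  all_one : ∃ J ∈ M, ∀ d, co J d = 1
  map : ∀ x ∈ M, ∀ y ∈ M, ∀ φ : ℤ → ℤ → ℤ, ∃ z ∈ M, ∀ d, co z d = φ (co x d) (co y d)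
  prim : ∀ x ∈ M, (∀ d, 0 ≤ co x d) → co x (.inl 1) ≠ 0 → (∀ d, co (x * x) d ≠ 0 → co x d ≠ 0) →
    (∀ d, co x d ≠ 0) ∨ ∀ d, co x d ≠ 0 → d = .inl 1
  stab : ∀ x ∈ M, ∀ e : C, e ≠ 1 → (∀ d, co x (d.map (e * ·) (e * ·)) = co x d) →
    ∀ d, co x d = co x (.inl 1)

namespace SRing

variable [Fintype C] (S : SRing C)

/-- The first component. -/
def A (x : S.M) : MonoidAlgebra ℤ C := x.1 0 0

/-- The second component. -/
def B (x : S.M) : MonoidAlgebra ℤ C := x.1 0 1

theorem star_A (x : S.M) : star' (S.A x) = S.A x := (S.sym x.1 x.2).2.2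

theorem A_inv (x : S.M) (c : C) : (S.A x).coeff c⁻¹ = (S.A x).coeff c := by
  rw [← coeff_star', S.star_A]

theorem A_mul (x y : S.M) : S.A (x * y) = S.A x * S.A y + S.B x * star' (S.B y) := by
  show (x.1 * y.1) 0 0 = _
  rw [Matrix.mul_apply, Fin.sum_univ_two, (S.sym y.1 y.2).1]
  rfl

theorem B_mul (x y : S.M) : S.B (x * y) = S.A x * S.B y + S.B x * S.A y := by
  show (x.1 * y.1) 0 1 = _
  rw [Matrix.mul_apply, Fin.sum_univ_two, (S.sym y.1 y.2).2.1]
  rfl

theorem ext' {x y : S.M} (ha : S.A x = S.A y) (hb : S.B x = S.B y) : x = y := by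
  refine Subtype.ext (Matrix.ext fun i j => ?_)
  fin_cases i <;> fin_cases j
  · exact ha
  · exact hb
  · show x.1 1 0 = y.1 1 0
    rw [(S.sym x.1 x.2).1, (S.sym y.1 y.2).1]
    exact congrArg star' hb
  · show x.1 1 1 = y.1 1 1
    rw [(S.sym x.1 x.2).2.1, (S.sym y.1 y.2).2.1]
    exact ha

theorem ext_co {x y : S.M} (h : ∀ d, co x.1 d = co y.1 d) : x = y :=
  S.ext' (by ext c; exact h (.inl c)) (by ext c; exact h (.inr c))

theorem B_star_comm (x y : S.M) : S.B x * star' (S.B y) = S.B y * star' (S.B x) := by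
  have h := S.star_A (x * y)
  rw [A_mul, map_add, map_mul, map_mul, star'_star', S.star_A, S.star_A] at h
  have := add_left_cancel h
  rw [← this, mul_comm]

theorem mul_comm' (x y : S.M) : x * y = y * x :=
  S.ext' (by rw [A_mul, A_mul, mul_comm (S.A x), S.B_star_comm]) (by rw [B_mul, B_mul]; ring)

noncomputable instance instCommRing : CommRing S.M :=
  { (inferInstance : Ring S.M) with mul_comm := S.mul_comm' }

theorem A_add (x y : S.M) : S.A (x + y) = S.A x + S.A y := rfl

theorem B_add (x y : S.M) : S.B (x + y) = S.B x + S.B y := rfl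

theorem A_sub (x y : S.M) : S.A (x - y) = S.A x - S.A y := rfl

theorem B_sub (x y : S.M) : S.B (x - y) = S.B x - S.B y := rfl

theorem A_one : S.A 1 = 1 := rfl

theorem B_one : S.B 1 = 0 := rfl

theorem A_natCast (n : ℕ) : S.A (n : S.M) = n := by
  induction n with
  | zero => simp only [Nat.cast_zero]; rfl
  | succ n ih => rw [Nat.cast_succ, A_add, ih, A_one, Nat.cast_succ]

theorem B_natCast (n : ℕ) : S.B (n : S.M) = 0 := by
  induction n with
  | zero => simp only [Nat.cast_zero]; rfl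
  | succ n ih => rw [Nat.cast_succ, B_add, ih, B_one, add_zero]

theorem A_natCast_mul (n : ℕ) (x : S.M) : S.A ((n : S.M) * x) = (n : MonoidAlgebra ℤ C) * S.A x := by
  rw [A_mul, A_natCast, B_natCast, zero_mul, add_zero]

theorem B_natCast_mul (n : ℕ) (x : S.M) : S.B ((n : S.M) * x) = (n : MonoidAlgebra ℤ C) * S.B x := by
  rw [B_mul, A_natCast, B_natCast, zero_mul, add_zero]

theorem coeff_natCast_mul (n : ℕ) (x : MonoidAlgebra ℤ C) (c : C) :
    ((n : MonoidAlgebra ℤ C) * x).coeff c = (n : ℤ) * x.coeff c := by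
  rw [MonoidAlgebra.natCast_def, coeff_single_mul', inv_one, one_mul]

theorem co_natCast_mul (n : ℕ) (x : S.M) (d : C ⊕ C) : co ((n : S.M) * x).1 d = (n : ℤ) * co x.1 d := by
  rcases d with c | c
  · show (S.A ((n : S.M) * x)).coeff c = _
    rw [A_natCast_mul, coeff_natCast_mul]; rfl
  · show (S.B ((n : S.M) * x)).coeff c = _
    rw [B_natCast_mul, coeff_natCast_mul]; rfl

/-- Coefficientwise application of a function. -/
noncomputable def pw (φ : ℤ → ℤ → ℤ) (x y : S.M) : S.M :=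
  ⟨(S.map x.1 x.2 y.1 y.2 φ).choose, (S.map x.1 x.2 y.1 y.2 φ).choose_spec.1⟩

theorem co_pw (φ : ℤ → ℤ → ℤ) (x y : S.M) (d : C ⊕ C) :
    co (S.pw φ x y).1 d = φ (co x.1 d) (co y.1 d) :=
  (S.map x.1 x.2 y.1 y.2 φ).choose_spec.2 d

/-- The element with all coefficients one. -/
noncomputable def J : S.M := ⟨S.all_one.choose, S.all_one.choose_spec.1⟩

theorem co_J (d : C ⊕ C) : co S.J.1 d = 1 := S.all_one.choose_spec.2 d

theorem co_one (d : C ⊕ C) [Decidable (d = .inl 1)] : co (1 : S.M).1 d = if d = .inl 1 then 1 else 0 := by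
  classical
  rcases d with c | c
  · show (S.A 1).coeff c = _
    rw [A_one, MonoidAlgebra.one_def, coeff_single, Finsupp.single_apply]
    by_cases h : c = 1 <;> simp [h, eq_comm]
  · show (S.B 1).coeff c = _
    rw [B_one]
    simp

theorem natCast_dvd_iff' (n : ℕ) (x : S.M) : (n : S.M) ∣ x ↔ ∀ d, (n : ℤ) ∣ co x.1 d := by
  constructor
  · rintro ⟨y, rfl⟩ d
    exact ⟨_, S.co_natCast_mul n y d⟩
  · intro h
    refine ⟨S.pw (fun u _ => u / n) x x, S.ext_co fun d => ?_⟩
    rw [co_natCast_mul, co_pw, Int.mul_ediv_cancel' (h d)]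

/-- A subring closed coefficientwise and missing a coefficient consists of scalars. -/
theorem trapped (P : S.M → Prop) (h1 : P 1) (hmul : ∀ x y, P x → P y → P (x * y))
    (hmap : ∀ φ : ℤ → ℤ → ℤ, φ 0 0 = 0 → ∀ x y, P x → P y → P (S.pw φ x y))
    (hmiss : ∃ d, ∀ x, P x → co x.1 d = 0) :
    ∀ x, P x → ∀ d, co x.1 d ≠ 0 → d = .inl 1 := by
  classical
  let ψ : ℤ → ℤ → ℤ := fun u v => if u = 0 ∧ v = 0 then 0 else 1
  have hψ : ∀ u v, ψ u v ≠ 0 ↔ (u ≠ 0 ∨ v ≠ 0) := fun u v => by
    simp only [ψ]; split_ifs with h <;> tauto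
  have hψ0 : ∀ u v, 0 ≤ ψ u v := fun u v => by simp only [ψ]; split_ifs <;> norm_num
  have cover : ∀ s : Finset (C ⊕ C), (∀ d ∈ s, ∃ x, P x ∧ co x.1 d ≠ 0) →
      ∃ e, P e ∧ (∀ d, 0 ≤ co e.1 d) ∧ co e.1 (.inl 1) ≠ 0 ∧ ∀ d ∈ s, co e.1 d ≠ 0 := by
    intro s
    induction s using Finset.induction_on with
    | empty => exact fun _ => ⟨1, h1, fun d => by rw [co_one]; split_ifs <;> norm_num, by simp [co_one], by simp⟩
    | insert a s ha ih =>
      intro h
      obtain ⟨e, he, he0, he1, hes⟩ := ih fun d hd => h d (Finset.mem_insert_of_mem hd)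
      obtain ⟨x, hx, hxa⟩ := h a (Finset.mem_insert_self a s)
      refine ⟨S.pw ψ e x, hmap ψ (by simp [ψ]) e x he hx, fun d => by rw [co_pw]; exact hψ0 _ _, ?_, ?_⟩
      · rw [co_pw, hψ]; exact Or.inl he1
      · intro d hd
        rw [co_pw, hψ]
        rcases Finset.mem_insert.1 hd with rfl | hd
        · exact Or.inr hxa
        · exact Or.inl (hes d hd)
  obtain ⟨e, he, he0, he1, hes⟩ := cover (Finset.univ.filter fun d => ∃ x, P x ∧ co x.1 d ≠ 0)
    fun d hd => (Finset.mem_filter.1 hd).2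
  have key : ∀ x, P x → ∀ d, co x.1 d ≠ 0 → co e.1 d ≠ 0 := fun x hx d hd =>
    hes d (Finset.mem_filter.2 ⟨Finset.mem_univ _, x, hx, hd⟩)
  rcases S.prim e.1 e.2 he0 he1 (fun d hd => key (e * e) (hmul e e he he) d hd) with h | h
  · obtain ⟨d, hd⟩ := hmiss
    exact absurd (hd e he) (h d)
  · exact fun x hx d hd => h d (key x hx d hd)

/-- An element in the group ring of the cyclic half is scalar. -/
theorem cOnly {x : S.M} (hx : S.B x = 0) : ∀ d, co x.1 d ≠ 0 → d = .inl 1 := by
  refine S.trapped (fun y => S.B y = 0) S.B_one (fun y z hy hz => by simp only [B_mul, hy, hz, mul_zero, zero_mul, add_zero])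
    (fun φ hφ y z hy hz => ?_) ⟨.inr 1, fun y hy => by show (S.B y).coeff 1 = 0; rw [hy]; simp⟩ x hx
  ext c
  show co (S.pw φ y z).1 (.inr c) = _
  rw [co_pw, co_inr, co_inr, show y.1 0 1 = 0 from hy, show z.1 0 1 = 0 from hz]
  simpa using hφ

variable [Nontrivial C]

/-- The first component determines the element. -/
theorem sOnly {x : S.M} (hx : S.A x = 0) : x = 0 := by
  classical
  let e := S.pw (fun u _ => if u = 0 then 0 else 1) x x
  have hA : S.A e = 0 := by
    ext c
    show co e.1 (.inl c) = _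
    rw [co_pw, co_inl, show x.1 0 0 = 0 from hx]
    simp
  have he : ∀ d, co e.1 d = 0 ∨ co e.1 d = 1 := fun d => by
    simp only [e, co_pw]; split_ifs <;> simp
  have he0 : ∀ c, 0 ≤ (S.B e).coeff c := fun c => by
    rcases he (.inr c) with h | h <;> rw [show (S.B e).coeff c = co e.1 (.inr c) from rfl, h] <;> norm_num
  have hB2 : S.B (e * e) = 0 := by rw [B_mul, hA, zero_mul, mul_zero, add_zero]
  have hsingle : ∀ b₁ b₂, (S.B e).coeff b₁ ≠ 0 → (S.B e).coeff b₂ ≠ 0 → b₁ = b₂ := by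
    intro b₁ b₂ h₁ h₂
    have hne : co (e * e).1 (.inl (b₁ * b₂⁻¹)) ≠ 0 := by
      show (S.A (e * e)).coeff _ ≠ 0
      rw [A_mul, hA, zero_mul, zero_add, coeff_mul']
      refine (lt_of_lt_of_le ?_ (Finset.single_le_sum (f := fun d => (S.B e).coeff d * (star' (S.B e)).coeff (d⁻¹ * (b₁ * b₂⁻¹)))
        (fun d _ => mul_nonneg (he0 d) (by rw [coeff_star']; exact he0 _)) (Finset.mem_univ b₁))).ne'
      rw [coeff_star', inv_mul_cancel_left, inv_inv]
      exact mul_pos (lt_of_le_of_ne (he0 _) (Ne.symm h₁)) (lt_of_le_of_ne (he0 _) (Ne.symm h₂))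
    have := S.cOnly hB2 _ hne
    exact mul_inv_eq_one.1 (Sum.inl.inj this)
  have hzero : ∀ c, (S.B e).coeff c = 0 := by
    by_contra hne
    push Not at hne
    obtain ⟨b, hb⟩ := hne
    have hz : ∀ d, co (1 + e).1 d = co (1 : S.M).1 d + co e.1 d := fun d => by rcases d with c | c <;> rfl
    have hsupp : ∀ d, co (1 + e).1 d ≠ 0 ↔ d = .inl 1 ∨ d = .inr b := by
      intro d
      rw [hz, co_one]
      rcases d with c | c
      · rw [show co e.1 (.inl c) = (S.A e).coeff c from rfl, hA]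
        by_cases h : c = 1 <;> simp [h]
      · rw [if_neg (by simp), zero_add]
        constructor
        · exact fun h => Or.inr (congrArg Sum.inr (hsingle c b h hb))
        · rintro (h | h)
          · simp at h
          · cases h; exact hb
    rcases S.prim (1 + e).1 (1 + e).2 (fun d => by
        rw [hz, co_one]; rcases he d with h | h <;> rw [h] <;> split_ifs <;> norm_num)
      ((hsupp _).2 (Or.inl rfl)) (fun d hd => by
        by_contra hd'
        apply hd
        have hsq : ((1 + e) * (1 + e) : S.M) = 1 + e + e + e * e := by ring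
        show co ((1 + e) * (1 + e) : S.M).1 d = 0
        rw [hsq]
        have h1 : co (1 : S.M).1 d + co e.1 d = 0 := by rw [← hz]; exact hd'
        have hd1 : d ≠ .inl 1 := fun h => (hsupp d).2 (Or.inl h) hd'
        have h2 : co e.1 d = 0 := by rw [co_one, if_neg hd1, zero_add] at h1; exact h1
        have h3 : co (e * e).1 d = 0 := by by_contra h; exact hd1 (S.cOnly hB2 d h)
        have : co (1 + e + e + e * e : S.M).1 d = co (1 : S.M).1 d + co e.1 d + co e.1 d + co (e * e).1 d := by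
          rcases d with c | c <;> rfl
        rw [this, h3, h1, h2]
        norm_num) with h | h
    · obtain ⟨c, hc⟩ := exists_ne b
      rcases (hsupp (.inr c)).1 (h _) with h' | h'
      · simp at h'
      · exact hc (Sum.inr.inj h')
    · exact Sum.inr_ne_inl (h _ ((hsupp (.inr b)).2 (Or.inr rfl)))
  refine S.ext_co fun d => ?_
  rcases d with c | c
  · show (S.A x).coeff c = _
    rw [hx]; rfl
  · have h : co e.1 (.inr c) = 0 := hzero c
    rw [co_pw] at h
    show _ = (0 : MonoidAlgebra ℤ C).coeff c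
    rw [coeff_zero, Finsupp.zero_apply]
    by_contra hne
    simp only [co_inr] at h hne
    exact one_ne_zero (α := ℤ) ((if_neg hne).symm.trans h)

theorem eq_of_A {x y : S.M} (h : S.A x = S.A y) : x = y :=
  sub_eq_zero.1 (S.sOnly (by rw [A_sub, h, sub_self]))

/-- Congruent first components force congruence. -/
theorem dvd_of_A {n : ℕ} {x : S.M} (h : (n : MonoidAlgebra ℤ C) ∣ S.A x) : (n : S.M) ∣ x := by
  rw [natCast_dvd_iff] at h
  rw [natCast_dvd_iff']
  let e := S.pw (fun u _ => u % (n : ℤ)) x x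
  have : e = 0 := S.sOnly (by
    ext c
    show co e.1 (.inl c) = _
    rw [co_pw, coeff_zero, Finsupp.zero_apply]
    exact Int.emod_eq_zero_of_dvd (h c))
  intro d
  have h2 := congrArg (fun z : S.M => co z.1 d) this
  simp only [e, co_pw] at h2
  refine Int.dvd_of_emod_eq_zero (h2.trans ?_)
  rcases d with c | c <;> rfl

theorem A_dvd {n : ℕ} {x : S.M} (h : (n : S.M) ∣ x) : (n : MonoidAlgebra ℤ C) ∣ S.A x := by
  obtain ⟨y, rfl⟩ := h
  exact ⟨S.A y, S.A_natCast_mul n y⟩

end SRing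

end Cfsg.Agent.PermGp.DihedralRing
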