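import Cfsg.Agent.Lib.PermGp.DihedralRing.NoDesignFinal

/-!
Every primitive symmetric Schur ring over a dihedral group is trivial.
-/

set_option autoImplicit false
set_option linter.all false

namespace Cfsg.Agent.PermGp.DihedralRing

open MonoidAlgebra

variable {C : Type*} [CommGroup C] [Fintype C]

namespace SRing

theorem rat_trivial [IsCyclic C] [Nontrivial C] (S : SRing C) (hr : S.Rat) (x : S.M) (c d : C) (hc : c ≠ 1) (hd : d ≠ 1) :
    (S.A x).coeff c = (S.A x).coeff d := by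
  classical
  have key : ∀ (p : ℕ) (ε : C), p.Prime → orderOf ε = p → S.Stable p → (S.Num p ε → False) →
      (S.A x).coeff c = (S.A x).coeff d := by
    intro p ε hp hε hst hno
    have hP : ∀ (z : S.M) (e : C), e ^ p = 1 → e ≠ 1 → (S.A z).coeff e = (S.A z).coeff ε := fun z e he he1 => by
      haveI := Fact.mk hp
      exact hr.orderOf_eq z (by rw [hε, orderOf_eq_prime he he1])
    rcases S.design_or_constant hp hε hst hP with h | h
    · exact ((Design.num h hst hP).elim hno).elim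
    · exact h x c d hc hd
  have hn : 1 < Nat.card C := Finite.one_lt_card
  by_cases hodd : ∃ p : ℕ, p.Prime ∧ Odd p ∧ p ∣ Nat.card C
  · obtain ⟨p, hp, hop, hpn⟩ := hodd
    haveI := Fact.mk hp
    obtain ⟨ε, hε⟩ := exists_prime_orderOf_dvd_card' (G := C) p hpn
    exact key p ε hp hε (stable_of_prime hp hpn hr (Or.inl hop)) fun D => no_design_odd hp hop hε D
  · push Not at hodd
    obtain ⟨a, ha⟩ : ∃ a, Nat.card C = 2 ^ a := by
      refine ⟨_, Nat.eq_prime_pow_of_unique_prime_dvd Nat.card_pos.ne' fun {q} hq hqn => ?_⟩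
      rcases hq.eq_two_or_odd' with h | h
      · exact h
      · exact absurd hqn (hodd q hq h)
    obtain ⟨a, rfl⟩ : ∃ b, a = b + 1 := ⟨a - 1, by
      rcases a with _ | a
      · rw [ha] at hn; simp at hn
      · omega⟩
    obtain ⟨g, hg⟩ := IsCyclic.exists_monoid_generator (α := C)
    have hgo : orderOf g = 2 ^ (a + 1) := by
      rw [orderOf_eq_card_of_forall_mem_zpowers fun c => mem_powers_iff_mem_zpowers.1 (hg c), ha]
    have hε : orderOf (g ^ 2 ^ a) = 2 := by
      rw [orderOf_pow, hgo, Nat.gcd_eq_right (pow_dvd_pow 2 a.le_succ), pow_succ,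
        Nat.mul_div_cancel_left _ (pow_pos two_pos a)]
    exact key 2 _ Nat.prime_two hε (stable_of_prime Nat.prime_two (ha ▸ dvd_pow_self 2 a.succ_ne_zero) hr
      (Or.inr ⟨a + 1, ha⟩)) fun D => no_design_two hg hgo rfl D

variable (S : SRing C)

theorem exists_big_prime (k : ℕ) (hk : k.Coprime (Nat.card C)) (N : ℕ) :
    ∃ q : ℕ, q.Prime ∧ Odd q ∧ N < q ∧ q.Coprime (Nat.card C) ∧ ∀ c : C, c ^ q = c ^ k := by
  obtain ⟨q, hq, hqp, hmod⟩ := Nat.forall_exists_prime_gt_and_modEq (N + 2) (Nat.card_pos (α := C)).ne' hk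
  refine ⟨q, hqp, hqp.eq_two_or_odd'.resolve_left (by omega), by omega, ?_, fun c => ?_⟩
  · rw [Nat.coprime_iff_gcd_eq_one] at hk ⊢
    rw [← hk]
    exact Nat.ModEq.gcd_eq hmod
  · exact pow_eq_pow_iff_modEq.2 (hmod.of_dvd (orderOf_dvd_natCard c))

theorem A_pow_prime_fr {q : ℕ} (hq : q.Prime) (hodd : Odd q) (x : S.M) (c : C) :
    (q : ℤ) ∣ (S.A (x ^ q)).coeff c - (fr q (S.A x)).coeff c := by
  have h := dvd_add (S.A_pow_prime hq hodd x) (pow_prime_dvd hq (S.A x))
  rw [sub_add_sub_cancel, natCast_dvd_iff] at h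
  simpa using h c

theorem rat_mul [Nontrivial C] (x y : S.M)
    (hx : ∀ k, k.Coprime (Nat.card C) → ∀ c, (S.A x).coeff (c ^ k) = (S.A x).coeff c)
    (hy : ∀ k, k.Coprime (Nat.card C) → ∀ c, (S.A y).coeff (c ^ k) = (S.A y).coeff c)
    (k : ℕ) (hk : k.Coprime (Nat.card C)) (c : C) : (S.A (x * y)).coeff (c ^ k) = (S.A (x * y)).coeff c := by
  obtain ⟨q, hq, hodd, hN, hcop, hpow⟩ := exists_big_prime k hk
    (((S.A (x * y)).coeff (c ^ k) - (S.A (x * y)).coeff c).natAbs)
  have hfix : ∀ z : S.M, (∀ k, k.Coprime (Nat.card C) → ∀ c, (S.A z).coeff (c ^ k) = (S.A z).coeff c) →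
      (q : S.M) ∣ z ^ q - z := by
    intro z hz
    refine S.dvd_of_A ?_
    rw [natCast_dvd_iff]
    intro d
    rw [A_sub, coeff_sub, Finsupp.sub_apply]
    obtain ⟨e, rfl⟩ := (powCoprime (G := C) hcop.symm).surjective d
    have h := S.A_pow_prime_fr hq hodd z (e ^ q)
    rw [coeff_fr_bij hcop] at h
    show (q : ℤ) ∣ (S.A (z ^ q)).coeff (e ^ q) - (S.A z).coeff (e ^ q)
    rwa [hz q hcop]
  have h1 : (q : S.M) ∣ (x * y) ^ q - x * y := by
    have e : (x * y) ^ q - x * y = (x ^ q - x) * y ^ q + x * (y ^ q - y) := by rw [mul_pow]; ring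
    rw [e]
    exact dvd_add (dvd_mul_of_dvd_left (hfix x hx) _) (dvd_mul_of_dvd_right (hfix y hy) _)
  have h2 := natCast_dvd_iff.1 (S.A_dvd h1) (c ^ q)
  rw [A_sub, coeff_sub, Finsupp.sub_apply] at h2
  have h3 := S.A_pow_prime_fr hq hodd (x * y) (c ^ q)
  rw [coeff_fr_bij hcop] at h3
  have h4 : (q : ℤ) ∣ (S.A (x * y)).coeff (c ^ k) - (S.A (x * y)).coeff c := by
    have := dvd_sub h3 h2
    rwa [hpow, sub_sub_sub_cancel_left] at this
  by_contra hne
  have h5 := Int.natAbs_dvd_natAbs.2 h4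
  rw [Int.natAbs_natCast] at h5
  exact absurd (Nat.le_of_dvd (Int.natAbs_pos.2 (sub_ne_zero.2 hne)) h5) (not_le.2 hN)

/-- The subring of elements invariant under the multipliers. -/
noncomputable def ratSub [Nontrivial C] : Subring S.M where
  carrier := {x : S.M | ∀ k : ℕ, k.Coprime (Nat.card C) → ∀ c, (S.A x).coeff (c ^ k) = (S.A x).coeff c}
  one_mem' := by
    classical
    intro k hk c
    rw [A_one, MonoidAlgebra.one_def, coeff_single, Finsupp.single_apply, Finsupp.single_apply]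
    refine if_congr ?_ rfl rfl
    constructor
    · intro h
      exact ((powCoprime hk.symm).injective (show c ^ k = (1 : C) ^ k by rw [← h, one_pow])).symm
    · rintro rfl; rw [one_pow]
  zero_mem' := fun k _ c => by
    rw [show S.A 0 = 0 from rfl]; simp
  add_mem' {x y} hx hy k hk c := by
    rw [A_add, coeff_add, Finsupp.add_apply, Finsupp.add_apply, hx k hk, hy k hk]
  neg_mem' {x} hx k hk c := by
    rw [show S.A (-x) = -S.A x from rfl, coeff_neg, Finsupp.neg_apply, Finsupp.neg_apply, hx k hk]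
  mul_mem' {x y} hx hy := fun k hk c => S.rat_mul x y hx hy k hk c

/-- The rational Schur ring. -/
noncomputable def ratRing [Nontrivial C] : SRing C where
  M := S.ratSub.map S.M.subtype
  sym x hx := by
    obtain ⟨y, -, rfl⟩ := Subring.mem_map.1 hx
    exact S.sym y.1 y.2
  all_one := ⟨S.J.1, Subring.mem_map.2 ⟨S.J, fun k hk c => (S.co_J (.inl (c ^ k))).trans (S.co_J (.inl c)).symm, rfl⟩, S.co_J⟩
  map x hx y hy φ := by
    obtain ⟨x', hx', rfl⟩ := Subring.mem_map.1 hx
    obtain ⟨y', hy', rfl⟩ := Subring.mem_map.1 hy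
    refine ⟨(S.pw φ x' y').1, Subring.mem_map.2 ⟨S.pw φ x' y', fun k hk c => ?_, rfl⟩, S.co_pw φ x' y'⟩
    show co (S.pw φ x' y').1 (.inl (c ^ k)) = co (S.pw φ x' y').1 (.inl c)
    rw [co_pw, co_pw]
    exact congrArg₂ φ (hx' k hk c) (hy' k hk c)
  prim x hx := by
    obtain ⟨y, -, rfl⟩ := Subring.mem_map.1 hx
    exact S.prim y.1 y.2
  stab x hx := by
    obtain ⟨y, -, rfl⟩ := Subring.mem_map.1 hx
    exact S.stab y.1 y.2

theorem ratRing_rat [Nontrivial C] : S.ratRing.Rat := by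
  intro x k hk c
  obtain ⟨y, hy, e⟩ := Subring.mem_map.1 x.2
  show (x.1 0 0).coeff (c ^ k) = (x.1 0 0).coeff c
  rw [← e]
  exact hy k hk c

theorem tot_aug : ∀ (x : S.M) (n : ℕ), aug (S.A (x ^ n)) + aug (S.B (x ^ n)) = (aug (S.A x) + aug (S.B x)) ^ n
  | x, 0 => by simp [A_one, B_one]
  | x, n + 1 => by
    rw [pow_succ, A_mul, B_mul, pow_succ, ← tot_aug x n]
    simp only [map_add, map_mul, aug_star']
    ring

/-- The image of an indicator under a multiplier. -/
theorem exists_image [Nontrivial C] (x : S.M) (hx : ∀ d, co x.1 d = 0 ∨ co x.1 d = 1) (k : ℕ)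
    (hk : k.Coprime (Nat.card C)) :
    ∃ y : S.M, (∀ d, co y.1 d = 0 ∨ co y.1 d = 1) ∧ (∀ c, (S.A y).coeff (c ^ k) = (S.A x).coeff c) ∧
      aug (S.A y) = aug (S.A x) ∧ aug (S.B y) = aug (S.B x) := by
  classical
  obtain ⟨q, hq, hodd, hN, hcop, hpow⟩ := exists_big_prime k hk (2 * Nat.card C + 2)
  obtain ⟨y, hy⟩ : ∃ y, y = S.pw (fun u _ => if (q : ℤ) ∣ u - 1 then 1 else 0) (x ^ q) (x ^ q) := ⟨_, rfl⟩
  have hy01 : ∀ d, co y.1 d = 0 ∨ co y.1 d = 1 := fun d => by rw [hy, co_pw]; split_ifs <;> simp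
  have hA : ∀ c, (S.A y).coeff (c ^ k) = (S.A x).coeff c := by
    intro c
    have h := S.A_pow_prime_fr hq hodd x (c ^ q)
    rw [coeff_fr_bij hcop] at h
    show co y.1 (.inl (c ^ k)) = co x.1 (.inl c)
    rw [← hpow, hy, co_pw]
    rcases hx (.inl c) with a | a <;> rw [a] <;> simp only [co_inl] at a <;> simp only [A, a] at h
    · rw [if_neg]
      intro h'
      rw [co_inl] at h'
      have h1 : (q : ℤ) ∣ 1 := by
        have := dvd_sub h h'
        simpa using this
      exact hq.ne_one (Nat.dvd_one.1 (by exact_mod_cast h1))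
    · rw [co_inl, if_pos h]
  have hAaug : aug (S.A y) = aug (S.A x) := by
    rw [aug_eq, aug_eq]
    exact (Fintype.sum_equiv (powCoprime hk.symm) _ _ fun c => (hA c).symm).symm
  have hdiv : (q : S.M) ∣ x ^ q - y := by
    refine S.dvd_of_A ?_
    rw [natCast_dvd_iff]
    intro d
    obtain ⟨e, rfl⟩ := (powCoprime (G := C) hcop.symm).surjective d
    show (q : ℤ) ∣ (S.A (x ^ q) - S.A y).coeff (e ^ q)
    rw [coeff_sub, Finsupp.sub_apply]
    have h := S.A_pow_prime_fr hq hodd x (e ^ q)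
    rw [coeff_fr_bij hcop] at h
    rwa [show (S.A y).coeff (e ^ q) = (S.A x).coeff e by rw [hpow]; exact hA e]
  refine ⟨y, hy01, hA, hAaug, ?_⟩
  have h1 : (q : ℤ) ∣ (aug (S.A x) + aug (S.B x)) ^ q - (aug (S.A y) + aug (S.B y)) := by
    obtain ⟨w, hw⟩ := hdiv
    refine ⟨aug (S.A w) + aug (S.B w), ?_⟩
    rw [← tot_aug]
    have ha := congrArg (fun z => aug (S.A z) + aug (S.B z)) hw
    simp only [A_sub, B_sub, A_natCast_mul, B_natCast_mul, map_sub, map_mul, map_natCast] at ha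
    linear_combination ha
  haveI := Fact.mk hq
  rw [← ZMod.intCast_zmod_eq_zero_iff_dvd, Int.cast_sub, Int.cast_pow, ZMod.pow_card, ← Int.cast_sub,
    ZMod.intCast_zmod_eq_zero_iff_dvd, hAaug, add_sub_add_left_eq_sub] at h1
  have hb : ∀ z : S.M, (∀ d, co z.1 d = 0 ∨ co z.1 d = 1) → 0 ≤ aug (S.B z) ∧ aug (S.B z) ≤ Nat.card C := by
    intro z hz
    rw [aug_eq, Nat.card_eq_fintype_card]
    have h01 : ∀ c, 0 ≤ (S.B z).coeff c ∧ (S.B z).coeff c ≤ 1 := fun c => by
      rcases hz (.inr c) with h | h <;> simp only [co_inr] at h <;> simp [B, h]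
    refine ⟨Finset.sum_nonneg fun c _ => (h01 c).1, le_trans (Finset.sum_le_sum fun c _ => (h01 c).2) (by simp)⟩
  have hx' := hb x hx
  have hy' := hb y hy01
  by_contra hne
  have := Int.le_of_dvd (abs_pos.2 (sub_ne_zero.2 (Ne.symm hne))) ((dvd_abs _ _).2 h1)
  rcases abs_cases (aug (S.B x) - aug (S.B y)) with ⟨e, -⟩ | ⟨e, -⟩ <;> rw [e] at this <;> omega

theorem A_const [IsCyclic C] [Nontrivial C] (x₀ : S.M) (c d : C) (hc : c ≠ 1) (hd : d ≠ 1) :
    (S.A x₀).coeff c = (S.A x₀).coeff d := by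
  classical
  -- the atom of c
  obtain ⟨x, hx01, hxc, hatom⟩ : ∃ x : S.M, (∀ e, co x.1 e = 0 ∨ co x.1 e = 1) ∧ co x.1 (.inl c) = 1 ∧
      ∀ e, co x.1 e = 1 → ∀ z : S.M, co z.1 e = co z.1 (.inl c) := by
    suffices h : ∀ s : Finset (C ⊕ C), ∃ x : S.M, (∀ e, co x.1 e = 0 ∨ co x.1 e = 1) ∧ co x.1 (.inl c) = 1 ∧
        ∀ e ∈ s, co x.1 e = 1 → ∀ z : S.M, co z.1 e = co z.1 (.inl c) by
      obtain ⟨x, h1, h2, h3⟩ := h Finset.univ
      exact ⟨x, h1, h2, fun e he => h3 e (Finset.mem_univ e) he⟩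
    intro s
    induction s using Finset.induction_on with
    | empty => exact ⟨S.J, fun e => Or.inr (S.co_J e), S.co_J _, by simp⟩
    | insert a s ha ih =>
      obtain ⟨x, h1, h2, h3⟩ := ih
      by_cases hsep : ∀ z : S.M, co z.1 a = co z.1 (.inl c)
      · refine ⟨x, h1, h2, fun e he => ?_⟩
        rcases Finset.mem_insert.1 he with rfl | he
        · exact fun _ => hsep
        · exact h3 e he
      push Not at hsep
      obtain ⟨z, hz⟩ := hsep
      refine ⟨S.pw (fun u v => if u = 1 ∧ v = co z.1 (.inl c) then 1 else 0) x z, fun e => ?_, ?_, fun e he h => ?_⟩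
      · rw [co_pw]; split_ifs <;> simp
      · rw [co_pw, if_pos ⟨h2, rfl⟩]
      · rw [co_pw] at h
        by_cases hh : co x.1 e = 1 ∧ co z.1 e = co z.1 (.inl c)
        · rcases Finset.mem_insert.1 he with rfl | he
          · exact absurd hh.2 hz
          · exact h3 e he hh.1
        · rw [if_neg hh] at h; norm_num at h
  have hx1 : (S.A x).coeff 1 = 0 := by
    rcases hx01 (.inl 1) with h | h
    · exact h
    · have := hatom _ h 1
      rw [co_one, co_one, if_pos rfl, if_neg (by simp [hc])] at this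
      norm_num at this
  obtain ⟨Ks, hKs⟩ : ∃ K, K = (Finset.range (Nat.card C)).filter fun k => k.Coprime (Nat.card C) := ⟨_, rfl⟩
  have hK : ∀ k, k.Coprime (Nat.card C) → ∃ k' ∈ Ks, ∀ e : C, e ^ k' = e ^ k := fun k hk => by
    refine ⟨k % Nat.card C, ?_, fun e => by rw [pow_mod_natCard]⟩
    rw [hKs, Finset.mem_filter, Finset.mem_range]
    refine ⟨Nat.mod_lt _ Nat.card_pos, ?_⟩
    rw [Nat.coprime_iff_gcd_eq_one] at hk ⊢
    rw [← Nat.gcd_rec, Nat.gcd_comm, hk]
  have hKmem : ∀ k ∈ Ks, k.Coprime (Nat.card C) := fun k hk => by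
    rw [hKs] at hk; exact (Finset.mem_filter.1 hk).2
  choose! im him01 himA himXA himXB using fun (k : ℕ) (hk : k.Coprime (Nat.card C)) => S.exists_image x hx01 k hk
  obtain ⟨F, hF⟩ : ∃ F, F = Ks.image im := ⟨_, rfl⟩
  have hFmem : ∀ y ∈ F, ∃ k, k.Coprime (Nat.card C) ∧ y = im k := fun y hy => by
    obtain ⟨k, hk, rfl⟩ := Finset.mem_image.1 (hF ▸ hy)
    exact ⟨k, hKmem k hk, rfl⟩
  have himF : ∀ k, k.Coprime (Nat.card C) → im k ∈ F := by
    intro k hk
    obtain ⟨k', hk', he⟩ := hK k hk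
    rw [hF]
    refine Finset.mem_image.2 ⟨k', hk', S.eq_of_A ?_⟩
    ext e
    obtain ⟨e', rfl⟩ := (powCoprime (G := C) hk.symm).surjective e
    show (S.A (im k')).coeff (e' ^ k) = (S.A (im k)).coeff (e' ^ k)
    rw [himA k hk, ← he, himA k' (hKmem k' hk')]
  have hdisj : ∀ y ∈ F, ∀ y' ∈ F, ∀ e, (S.A y).coeff e = 1 → (S.A y').coeff e = 1 → y = y' := by
    intro y hy y' hy' e he he'
    obtain ⟨k, hk, rfl⟩ := hFmem y hy
    refine S.eq_of_A ?_
    by_contra hne
    obtain ⟨g, hg⟩ : ∃ g, (S.A (im k)).coeff g ≠ (S.A y').coeff g := by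
      by_contra h
      push Not at h
      exact hne (by ext g; exact h g)
    obtain ⟨w, hw⟩ : ∃ w, w = S.pw (fun u v => if u = 1 ∧ v = 1 then 1 else 0) (im k) y' := ⟨_, rfl⟩
    have hw01 : ∀ d, co w.1 d = 0 ∨ co w.1 d = 1 := fun d => by rw [hw, co_pw]; split_ifs <;> simp
    -- pull back
    obtain ⟨q, hq, -, -, hqc, -⟩ := exists_big_prime k hk 1
    obtain ⟨k', hk'⟩ : ∃ k', k * k' ≡ 1 [MOD Nat.card C] := by
      obtain ⟨k', -, h⟩ := Nat.exists_mul_mod_eq_one_of_coprime hk Finite.one_lt_card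
      exact ⟨k', by rw [Nat.ModEq, h, Nat.one_mod_eq_one.2 Finite.one_lt_card.ne']⟩
    have hk'c : k'.Coprime (Nat.card C) := Nat.Coprime.coprime_mul_left (k := k) (by
      rw [Nat.coprime_iff_gcd_eq_one, Nat.ModEq.gcd_eq hk', Nat.gcd_one_left])
    have hinv : ∀ u : C, (u ^ k) ^ k' = u := fun u => by
      rw [← pow_mul]
      conv_rhs => rw [← pow_one u]
      exact pow_eq_pow_iff_modEq.2 (hk'.of_dvd (orderOf_dvd_natCard u))
    obtain ⟨v, -, hv, -, -⟩ := S.exists_image w hw01 k' hk'c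
    obtain ⟨e₁, rfl⟩ := (powCoprime (G := C) hk.symm).surjective e
    obtain ⟨g₁, rfl⟩ := (powCoprime (G := C) hk.symm).surjective g
    change (S.A (im k)).coeff (e₁ ^ k) = 1 at he
    change (S.A y').coeff (e₁ ^ k) = 1 at he'
    change (S.A (im k)).coeff (g₁ ^ k) ≠ (S.A y').coeff (g₁ ^ k) at hg
    have hve : (S.A v).coeff e₁ = 1 := by
      rw [← hinv e₁, hv]
      show co w.1 (.inl (e₁ ^ k)) = 1
      rw [hw, co_pw]
      exact if_pos ⟨he, he'⟩
    have hxe : co x.1 (.inl e₁) = 1 := by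
      show (S.A x).coeff e₁ = 1
      rw [← himA k hk]; exact he
    have hvc : co v.1 (.inl c) = 1 := (hatom _ hxe v).symm.trans hve
    rcases him01 k hk (.inl (g₁ ^ k)) with hgk | hgk
    · -- then the other image is bigger, compare sizes
      have hle : ∀ u, (S.A (im k)).coeff u ≤ (S.A y').coeff u := by
        intro u
        obtain ⟨u₁, rfl⟩ := (powCoprime (G := C) hk.symm).surjective u
        show (S.A (im k)).coeff (u₁ ^ k) ≤ (S.A y').coeff (u₁ ^ k)
        obtain ⟨k₂, hk₂, rfl⟩ := hFmem y' hy'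
        rcases him01 k hk (.inl (u₁ ^ k)) with a | a <;> simp only [co_inl] at a
        · rw [show (S.A (im k)).coeff (u₁ ^ k) = 0 from a]
          rcases him01 k₂ hk₂ (.inl (u₁ ^ k)) with b | b <;> simp only [co_inl] at b <;> simp [A, b]
        · have hxu : co x.1 (.inl u₁) = 1 := by show (S.A x).coeff u₁ = 1; rw [← himA k hk]; exact a
          have hvu : co v.1 (.inl u₁) = 1 := (hatom _ hxu v).trans hvc
          have : co w.1 (.inl (u₁ ^ k)) = 1 := by
            show (S.A w).coeff (u₁ ^ k) = 1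
            rw [← hv, hinv]; exact hvu
          rw [hw, co_pw] at this
          by_cases hh : co (im k).1 (.inl (u₁ ^ k)) = 1 ∧ co (im k₂).1 (.inl (u₁ ^ k)) = 1
          · rw [show (S.A (im k)).coeff (u₁ ^ k) = 1 from hh.1, show (S.A (im k₂)).coeff (u₁ ^ k) = 1 from hh.2]
          · rw [if_neg hh] at this; norm_num at this
      obtain ⟨k₂, hk₂, rfl⟩ := hFmem y' hy'
      have heq : aug (S.A (im k)) = aug (S.A (im k₂)) := by rw [himXA k hk, himXA k₂ hk₂]
      rw [aug_eq, aug_eq] at heq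
      exact hg ((Finset.sum_eq_sum_iff_of_le fun u _ => hle u).1 heq _ (Finset.mem_univ _))
    · have hxg : co x.1 (.inl g₁) = 1 := by show (S.A x).coeff g₁ = 1; rw [← himA k hk]; exact hgk
      have hvg : co v.1 (.inl g₁) = 1 := (hatom _ hxg v).trans hvc
      have : co w.1 (.inl (g₁ ^ k)) = 1 := by
        show (S.A w).coeff (g₁ ^ k) = 1
        rw [← hv, hinv]; exact hvg
      rw [hw, co_pw] at this
      by_cases hh : co (im k).1 (.inl (g₁ ^ k)) = 1 ∧ co y'.1 (.inl (g₁ ^ k)) = 1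
      · exact hg (hh.1.trans hh.2.symm)
      · rw [if_neg hh] at this; norm_num at this
  obtain ⟨Z, hZ⟩ : ∃ Z, Z = ∑ y ∈ F, y := ⟨_, rfl⟩
  have hZc : ∀ e, (S.A Z).coeff e = ∑ y ∈ F, (S.A y).coeff e := by
    intro e
    rw [hZ]
    show co ((∑ y ∈ F, y : S.M)).1 (.inl e) = _
    rw [AddSubmonoidClass.coe_finset_sum, co_inl, Matrix.sum_apply, coeff_sum, Finset.sum_apply']
    rfl
  have hF01 : ∀ y ∈ F, ∀ e, (S.A y).coeff e = 0 ∨ (S.A y).coeff e = 1 := fun y hy e => by
    obtain ⟨k, hk, rfl⟩ := hFmem y hy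
    exact him01 k hk (.inl e)
  have hZ01 : ∀ e y, y ∈ F → (S.A y).coeff e = 1 → (S.A Z).coeff e = 1 := by
    intro e y hy he
    rw [hZc, Finset.sum_eq_single y, he]
    · exact fun y' hy' hne => (hF01 y' hy' e).resolve_right fun h => hne (hdisj y' hy' y hy e h he)
    · exact fun h => absurd hy h
  have hZrat : ∀ k, k.Coprime (Nat.card C) → ∀ e, (S.A Z).coeff (e ^ k) = (S.A Z).coeff e := by
    have hmap : ∀ k, k.Coprime (Nat.card C) → ∀ e, (S.A Z).coeff e = 1 → (S.A Z).coeff (e ^ k) = 1 := by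
      intro k hk e he
      obtain ⟨y, hy, hye⟩ : ∃ y ∈ F, (S.A y).coeff e = 1 := by
        by_contra h
        push Not at h
        rw [hZc, Finset.sum_eq_zero fun y hy => (hF01 y hy e).resolve_right (h y hy)] at he
        norm_num at he
      obtain ⟨l, hl, rfl⟩ := hFmem y hy
      obtain ⟨e₁, rfl⟩ := (powCoprime (G := C) hl.symm).surjective e
      change (S.A (im l)).coeff (e₁ ^ l) = 1 at hye
      rw [himA l hl] at hye
      show (S.A Z).coeff ((e₁ ^ l) ^ k) = 1
      have hlk : (l * k).Coprime (Nat.card C) := Nat.Coprime.mul_left hl hk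
      exact hZ01 _ _ (himF _ hlk) (by rw [← pow_mul, himA _ hlk]; exact hye)
    have hle : ∀ e, 0 ≤ (S.A Z).coeff e ∧ (S.A Z).coeff e ≤ 1 := by
      intro e
      by_cases h : ∃ y ∈ F, (S.A y).coeff e = 1
      · obtain ⟨y, hy, he⟩ := h
        rw [hZ01 e y hy he]; norm_num
      · push Not at h
        rw [hZc, Finset.sum_eq_zero fun y hy => (hF01 y hy e).resolve_right (h y hy)]
        norm_num
    intro k hk e
    have hge : ∀ u, (S.A Z).coeff u ≤ (S.A Z).coeff (u ^ k) := fun u => by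
      by_cases h : (S.A Z).coeff u = 1
      · rw [hmap k hk u h, h]
      · have := hle u; have := hle (u ^ k); omega
    have hsum : ∑ u, (S.A Z).coeff u = ∑ u, (S.A Z).coeff (u ^ k) :=
      (Fintype.sum_equiv (powCoprime hk.symm) _ _ fun u => rfl).symm
    exact ((Finset.sum_eq_sum_iff_of_le fun u _ => hge u).1 hsum e (Finset.mem_univ e)).symm
  have hxF : im 1 ∈ F := himF 1 (Nat.coprime_one_left _)
  have him1 : im 1 = x := S.eq_of_A (by
    ext e
    have := himA 1 (Nat.coprime_one_left _) e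
    rwa [pow_one] at this)
  rw [him1] at hxF
  have hZall : ∀ e, e ≠ 1 → (S.A Z).coeff e = 1 := by
    intro e he
    have h := rat_trivial S.ratRing S.ratRing_rat ⟨Z.1, Subring.mem_map.2 ⟨Z, hZrat, rfl⟩⟩ e c he hc
    exact h.trans (hZ01 c x hxF hxc)
  have hZJ : Z = S.J - 1 := S.eq_of_A (by
    ext e
    rw [A_sub, A_one, coeff_sub, Finsupp.sub_apply, MonoidAlgebra.one_def, coeff_single, Finsupp.single_apply,
      show (S.A S.J).coeff e = 1 from S.co_J (.inl e)]
    by_cases he : e = 1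
    · subst he
      rw [if_pos rfl, sub_self, hZc]
      refine Finset.sum_eq_zero fun y hy => ?_
      obtain ⟨k, hk, rfl⟩ := hFmem y hy
      have := himA k hk 1
      rwa [one_pow, hx1] at this
    · rw [if_neg (Ne.symm he), sub_zero, hZall e he])
  have hX : (F.card : ℤ) * aug (S.A x) = Nat.card C - 1 := by
    have h := congrArg (fun z => aug (S.A z)) hZJ
    simp only [A_sub, A_one, map_sub, map_one] at h
    have e1 : aug (S.A Z) = ∑ y ∈ F, aug (S.A y) := by
      simp only [aug_eq, hZc]; exact Finset.sum_comm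
    have e2 : aug (S.A S.J) = Nat.card C := by
      rw [aug_eq, Finset.sum_congr rfl (fun e _ => show (S.A S.J).coeff e = 1 from S.co_J (.inl e))]
      simp [Nat.card_eq_fintype_card]
    rw [e1, e2, Finset.sum_congr rfl (fun y hy => show aug (S.A y) = aug (S.A x) by obtain ⟨k, hk, rfl⟩ := hFmem y hy; exact himXA k hk),
      Finset.sum_const, nsmul_eq_mul] at h
    exact h
  have hY : (F.card : ℤ) * aug (S.B x) = Nat.card C := by
    have h := congrArg (fun z => aug (S.B z)) hZJ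
    simp only [B_sub, B_one, map_sub, map_zero, sub_zero] at h
    have e1 : aug (S.B Z) = ∑ y ∈ F, aug (S.B y) := by
      rw [hZ]
      show aug ((∑ y ∈ F, y : S.M).1 0 1) = _
      rw [AddSubmonoidClass.coe_finset_sum, Matrix.sum_apply, map_sum]
      rfl
    have e2 : aug (S.B S.J) = Nat.card C := by
      rw [aug_eq, Finset.sum_congr rfl (fun e _ => show (S.B S.J).coeff e = 1 from S.co_J (.inr e))]
      simp [Nat.card_eq_fintype_card]
    rw [e1, e2, Finset.sum_congr rfl (fun y hy => show aug (S.B y) = aug (S.B x) by obtain ⟨k, hk, rfl⟩ := hFmem y hy; exact himXB k hk),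
      Finset.sum_const, nsmul_eq_mul] at h
    exact h
  have hone : F.card = 1 := by
    have hd : (F.card : ℤ) ∣ 1 := ⟨aug (S.B x) - aug (S.A x), by linarith⟩
    exact Nat.dvd_one.1 (by exact_mod_cast hd)
  obtain ⟨w, hw⟩ := Finset.card_eq_one.1 hone
  have hxd : co x.1 (.inl d) = 1 := by
    have h := hZall d hd
    rw [hZc, hw, Finset.sum_singleton] at h
    rw [hw, Finset.mem_singleton] at hxF
    rw [hxF]; exact h
  exact (hatom _ hxd x₀).symm

end SRing

end Cfsg.Agent.PermGp.DihedralRing
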