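import Cfsg.Agent.Lib.PermGp.DihedralRing.Split

/-!
There is no rational rank three symmetric Schur ring over a dihedral group.
-/

set_option autoImplicit false
set_option linter.all false

namespace Cfsg.Agent.PermGp.DihedralRing

open MonoidAlgebra

variable {C : Type*} [CommGroup C] [Fintype C]

theorem coeff_natCast_mul' (n : ℕ) (x : MonoidAlgebra ℤ C) (c : C) :
    ((n : MonoidAlgebra ℤ C) * x).coeff c = (n : ℤ) * x.coeff c := by
  rw [MonoidAlgebra.natCast_def, coeff_single_mul', inv_one, one_mul]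

/-- The sum of all group elements. -/
noncomputable def tot : MonoidAlgebra ℤ C := ∑ c : C, single c 1

theorem coeff_tot (c : C) : (tot : MonoidAlgebra ℤ C).coeff c = 1 := by
  classical
  simp [tot, coeff_sum]

theorem tot_mul (x : MonoidAlgebra ℤ C) : tot * x = (aug x : MonoidAlgebra ℤ C) * tot := by
  ext c
  rw [coeff_mul', coeff_intCast_mul, coeff_tot, mul_one, aug_eq]
  refine Fintype.sum_equiv ((Equiv.inv C).trans (Equiv.mulRight c)) _ _ fun d => ?_
  rw [coeff_tot, one_mul]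
  rfl

theorem aug_tot : aug (tot : MonoidAlgebra ℤ C) = Nat.card C := by
  simp [tot, Nat.card_eq_fintype_card]

theorem star'_tot : star' (tot : MonoidAlgebra ℤ C) = tot := by
  ext c
  rw [coeff_star', coeff_tot, coeff_tot]

theorem two_dvd_mul {ε : C} (h1 : ε ≠ 1) (h2 : ε * ε = 1) {u v : MonoidAlgebra ℤ C}
    (hu : ∀ c, u.coeff (c * ε) = u.coeff c) (hv : ∀ c, v.coeff (c * ε) = v.coeff c) :
    ∃ w : MonoidAlgebra ℤ C, u * v = 2 * w ∧ ∀ c, w.coeff (c * ε) = w.coeff c := by
  have hdvd : ((2 : ℕ) : MonoidAlgebra ℤ C) ∣ u * v := by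
    rw [natCast_dvd_iff]
    intro c
    rw [coeff_mul', Nat.cast_ofNat]
    refine (ZMod.intCast_zmod_eq_zero_iff_dvd _ 2).1 ?_
    rw [Int.cast_sum]
    refine Finset.sum_involution (fun d _ => d * ε) (fun d _ => ?_) (fun d _ _ => ?_) (fun d _ => Finset.mem_univ _)
      (fun d _ => by rw [mul_assoc, h2, mul_one])
    · rw [hu, show (d * ε)⁻¹ * c = d⁻¹ * c * ε by
        rw [mul_inv, show ε⁻¹ = ε from inv_eq_of_mul_eq_one_left h2]; ac_rfl, hv]
      exact CharTwo.add_self_eq_zero _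
    · exact fun h => h1 (mul_eq_left.1 h)
  obtain ⟨w, hw⟩ := hdvd
  rw [Nat.cast_ofNat] at hw
  refine ⟨w, hw, fun c => ?_⟩
  have huv : (u * v).coeff (c * ε) = (u * v).coeff c := by
    rw [coeff_mul', coeff_mul']
    refine Finset.sum_congr rfl fun d _ => ?_
    rw [← mul_assoc, hv]
  rw [hw, show (2 : MonoidAlgebra ℤ C) = ((2 : ℤ) : MonoidAlgebra ℤ C) from (Int.cast_ofNat 2).symm, coeff_intCast_mul,
    coeff_intCast_mul] at huv
  linarith

theorem aug_dvd_two {ε : C} (h1 : ε ≠ 1) (h2 : ε * ε = 1) {x : MonoidAlgebra ℤ C}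
    (hx : (1 - single ε 1) * x = 0) : 2 ∣ aug x := by
  have hinv : ∀ c, x.coeff (c * ε) = x.coeff c := fun c => by
    have h := congrArg (fun u => u.coeff (c * ε)) hx
    simp only [coeff_E_mul, coeff_zero, Finsupp.zero_apply] at h
    rw [mul_comm c ε, inv_mul_cancel_left] at h
    rw [mul_comm c ε]
    exact sub_eq_zero.1 h
  rw [aug_eq]
  refine (ZMod.intCast_zmod_eq_zero_iff_dvd _ 2).1 ?_
  rw [Int.cast_sum]
  refine Finset.sum_involution (fun d _ => d * ε) (fun d _ => ?_) (fun d _ _ => ?_) (fun d _ => Finset.mem_univ _)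
    (fun d _ => by rw [mul_assoc, h2, mul_one])
  · rw [hinv]; exact CharTwo.add_self_eq_zero _
  · exact fun h => h1 (mul_eq_left.1 h)

namespace SRing

variable (S : SRing C) {p : ℕ} {ε : C}

/-- The numerical content of a design. -/
structure Num (p : ℕ) (ε : C) where
  x : S.M
  κ : ℤ
  μ : ℤ
  bin : ∀ d, co x.1 d = 0 ∨ co x.1 d = 1
  sq : S.A x * S.A x + S.B x * star' (S.B x) = (κ : MonoidAlgebra ℤ C) + (μ : MonoidAlgebra ℤ C) * tot
  cross : 2 * (S.A x * S.B x) = (μ : MonoidAlgebra ℤ C) * tot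
  one : (S.A x).coeff 1 = 0
  mem : ∃ c, (S.A x).coeff c = 1
  stable : ∀ c e, e ^ p = 1 → (S.A x).coeff (c * e) = (S.A x).coeff c
  Y : (1 - single ε 1) * S.B x ≠ 0

variable {S}

theorem Design.num (hd : S.Design ε) (hst : S.Stable p)
    (hP : ∀ (x : S.M) (e : C), e ^ p = 1 → e ≠ 1 → (S.A x).coeff e = (S.A x).coeff ε) : Nonempty (S.Num p ε) := by
  obtain ⟨x, κ, μ, hbin, h1, hε, hmem, hY, hsq⟩ := hd
  have hJA : S.A S.J = tot := by ext c; rw [coeff_tot]; exact S.co_J (.inl c)
  have hJB : S.B S.J = tot := by ext c; rw [coeff_tot]; exact S.co_J (.inr c)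
  have hA := congrArg S.A hsq
  have hB := congrArg S.B hsq
  rw [A_mul, A_add, A_intCast, A_mul, A_intCast, B_intCast, zero_mul, add_zero, hJA] at hA
  rw [B_mul, B_add, B_intCast, zero_add, B_mul, B_intCast, A_intCast, zero_mul, add_zero, hJB] at hB
  have hP0 : ∀ c, c ^ p = 1 → (S.A x).coeff c = 0 := fun c hc => by
    by_cases h : c = 1
    · rw [h, h1]
    · rw [hP x c hc h, hε]
  refine ⟨⟨x, κ, μ, hbin, hA, by rw [← hB]; ring, h1, hmem, fun c e he => ?_, hY⟩⟩
  by_cases hc : c ^ p = 1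
  · rw [hP0 c hc, hP0 (c * e) (by rw [mul_pow, hc, he, one_mul])]
  · exact hst x c e he hc

namespace Num

variable (D : S.Num p ε)

theorem nonneg (d : C ⊕ C) : 0 ≤ co D.x.1 d := by rcases D.bin d with h | h <;> rw [h]; norm_num

theorem A_star : star' (S.A D.x) = S.A D.x := S.star_A _

theorem aug_sq : aug (S.A D.x) ^ 2 + aug (S.B D.x) ^ 2 = D.κ + D.μ * Nat.card C := by
  have h := congrArg aug D.sq
  simp only [map_add, map_mul, map_intCast, aug_star', aug_tot, Int.cast_id] at h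
  linear_combination h

theorem aug_cross : 2 * (aug (S.A D.x) * aug (S.B D.x)) = D.μ * Nat.card C := by
  have h := congrArg aug D.cross
  simp only [map_mul, map_intCast, map_ofNat, aug_tot, Int.cast_id] at h
  exact h

theorem at_one : aug (S.A D.x) + aug (S.B D.x) = D.κ + D.μ := by
  have h := congrArg (fun u => u.coeff 1) D.sq
  simp only [coeff_add, Finsupp.add_apply, coeff_intCast_mul, coeff_tot, mul_one] at h
  rw [coeff_mul', coeff_mul'] at h
  have e1 : ∀ d, (S.A D.x).coeff d * (S.A D.x).coeff (d⁻¹ * 1) = (S.A D.x).coeff d := fun d => by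
    rw [mul_one, S.A_inv]
    rcases D.bin (.inl d) with a | a <;> simp only [co_inl] at a <;> simp [A, a]
  have e2 : ∀ d, (S.B D.x).coeff d * (star' (S.B D.x)).coeff (d⁻¹ * 1) = (S.B D.x).coeff d := fun d => by
    rw [mul_one, coeff_star', inv_inv]
    rcases D.bin (.inr d) with a | a <;> simp only [co_inr] at a <;> simp [B, a]
  simp only [e1, e2, ← aug_eq] at h
  rw [h]
  congr 1
  rw [← mul_one (D.κ : MonoidAlgebra ℤ C), coeff_intCast_mul, coeff_one_one, mul_one]

theorem cube : 2 * (S.A D.x * S.A D.x * S.A D.x) = 2 * (D.κ : MonoidAlgebra ℤ C) * S.A D.x +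
    (D.μ : MonoidAlgebra ℤ C) * ((2 * aug (S.A D.x) - aug (S.B D.x) : ℤ) : MonoidAlgebra ℤ C) * tot := by
  have h1 : (tot : MonoidAlgebra ℤ C) * star' (S.B D.x) = (aug (S.B D.x) : MonoidAlgebra ℤ C) * tot := by
    rw [tot_mul, aug_star']
  push_cast
  linear_combination (2 * S.A D.x) * D.sq - (star' (S.B D.x)) * D.cross + (2 * (D.μ : MonoidAlgebra ℤ C)) * tot_mul (S.A D.x)
    - (D.μ : MonoidAlgebra ℤ C) * h1

theorem kappa_pos (hε : ε ^ p = 1) : 0 < D.κ := by
  have hsq : (aug (S.A D.x) - aug (S.B D.x)) ^ 2 = D.κ := by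
    linear_combination D.aug_sq - D.aug_cross
  refine lt_of_le_of_ne (hsq ▸ sq_nonneg _) fun h0 => D.Y (eq_zero_of_mul_star' ?_)
  have hA : (1 - single ε 1) * S.A D.x * S.A D.x + (1 - single ε 1) * S.B D.x * star' (S.B D.x) =
      (1 - single ε 1) * ((D.κ : MonoidAlgebra ℤ C) + (D.μ : MonoidAlgebra ℤ C) * tot) := by
    rw [← D.sq]; ring
  have ht : (1 - single ε 1) * tot = (0 : MonoidAlgebra ℤ C) := by
    rw [mul_comm, tot_mul]; simp
  rw [← h0, Int.cast_zero, zero_add, mul_left_comm, ht, mul_zero] at hA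
  have hEA : (1 - single ε 1) * S.A D.x * S.A D.x = 0 := by
    have : (1 - single ε 1) * S.A D.x = 0 := by
      ext c
      rw [coeff_E_mul, mul_comm ε⁻¹, D.stable c ε⁻¹ (by rw [inv_pow, hε, inv_one])]
      simp
    rw [this, zero_mul]
  rw [hEA, zero_add] at hA
  rw [map_mul]
  linear_combination (star' (1 - single ε 1)) * hA

theorem inequality (hp : 0 < p) [IsCyclic C] (hpn : p ∣ Nat.card C) (hκ : 0 < D.κ) :
    (p : ℤ) * aug (S.A D.x) * ((Nat.card C : ℤ) - aug (S.A D.x)) ≤ D.κ * ((Nat.card C : ℤ) - p) := by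
  classical
  set X := aug (S.A D.x) with hX
  set m : ℤ := (Nat.card C : ℤ) with hm
  let Ph : MonoidAlgebra ℤ C := ∑ c ∈ Finset.univ.filter (fun c : C => c ^ p = 1), single c 1
  have hPh : ∀ c, Ph.coeff c = if c ^ p = 1 then 1 else 0 := fun c => by
    simp [Ph, coeff_sum, Finsupp.single_apply]
  have hcardP : (Finset.univ.filter (fun c : C => c ^ p = 1)).card = p := by
    rw [← Fintype.card_subtype, ← Nat.card_eq_fintype_card]
    refine Eq.trans (Nat.card_congr (Equiv.subtypeEquivRight fun c => ?_))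
      ((IsCyclic.card_powMonoidHom_ker (G := C) p).trans (Nat.gcd_eq_right hpn))
    simp [MonoidHom.mem_ker, powMonoidHom]
  have hPhA : Ph * S.A D.x = (p : MonoidAlgebra ℤ C) * S.A D.x := by
    ext c
    rw [coeff_mul', coeff_natCast_mul']
    simp only [hPh, ite_mul, one_mul, zero_mul]
    rw [← Finset.sum_filter, Finset.sum_congr rfl (fun d hd => ?_), Finset.sum_const, hcardP, nsmul_eq_mul]
    rw [mul_comm d⁻¹, D.stable c d⁻¹ (by rw [inv_pow, (Finset.mem_filter.1 hd).2, inv_one])]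
  have hPhPh : Ph * Ph = (p : MonoidAlgebra ℤ C) * Ph := by
    ext c
    rw [coeff_mul', coeff_natCast_mul']
    simp only [hPh, ite_mul, one_mul, zero_mul]
    rw [← Finset.sum_filter, Finset.sum_congr rfl (fun d hd => ?_), Finset.sum_const, hcardP, nsmul_eq_mul]
    have hd' := (Finset.mem_filter.1 hd).2
    rw [mul_pow, inv_pow, hd', inv_one, one_mul]
  have hPhs : star' Ph = Ph := by
    ext c
    rw [coeff_star', hPh, hPh, inv_pow]
    exact if_congr inv_eq_one rfl rfl
  have hPt : Ph * tot = (p : MonoidAlgebra ℤ C) * tot := by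
    rw [mul_comm, tot_mul]
    congr 1
    rw [map_sum]
    simp [hcardP]
  have htt : (tot : MonoidAlgebra ℤ C) * tot = (m : MonoidAlgebra ℤ C) * tot := by rw [tot_mul, aug_tot]
  have hAt : S.A D.x * tot = (X : MonoidAlgebra ℤ C) * tot := by rw [mul_comm, tot_mul]
  let mm : MonoidAlgebra ℤ C := (m : MonoidAlgebra ℤ C)
  let A' : MonoidAlgebra ℤ C := mm * S.A D.x - (X : MonoidAlgebra ℤ C) * tot
  have hA't : A' * tot = 0 := by
    simp only [A', mm, sub_mul, mul_assoc, hAt, htt]; ring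
  have hA'P : Ph * A' = (p : MonoidAlgebra ℤ C) * A' := by
    simp only [A', mm]
    linear_combination (m : MonoidAlgebra ℤ C) * hPhA - (X : MonoidAlgebra ℤ C) * hPt
  have hc3 : 2 * (X * X * X) = 2 * D.κ * X + D.μ * (2 * X - aug (S.B D.x)) * m := by
    have h := congrArg aug D.cube
    simp only [map_mul, map_add, map_intCast, map_ofNat, aug_tot, Int.cast_id, ← hX, ← hm] at h
    linear_combination h
  have hA'3 : (2 : MonoidAlgebra ℤ C) * (A' * A' * A') = 2 * mm * mm * (D.κ : MonoidAlgebra ℤ C) * A' := by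
    have h3 := congrArg (fun z : ℤ => (z : MonoidAlgebra ℤ C)) hc3
    push_cast at h3
    have hcube := D.cube
    push_cast at hcube
    rw [← hX] at hcube
    simp only [A', mm]
    linear_combination ((m : MonoidAlgebra ℤ C) * m * m) * hcube
      - (6 * (m : MonoidAlgebra ℤ C) * m * (X : MonoidAlgebra ℤ C) * S.A D.x
          + 6 * (m : MonoidAlgebra ℤ C) * m * (X : MonoidAlgebra ℤ C) * (X : MonoidAlgebra ℤ C)
          - 6 * (m : MonoidAlgebra ℤ C) * X * X * tot) * hAt
      + (6 * (m : MonoidAlgebra ℤ C) * X * X * X - 2 * (X : MonoidAlgebra ℤ C) * X * X * tot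
          - 2 * (m : MonoidAlgebra ℤ C) * X * X * X) * htt
      - ((m : MonoidAlgebra ℤ C) * m * tot) * h3
  let e : MonoidAlgebra ℤ C := A' * A'
  have he2 : 2 * (e * e) = 2 * mm * mm * (D.κ : MonoidAlgebra ℤ C) * e := by
    linear_combination A' * hA'3
  let k1 : MonoidAlgebra ℤ C := (D.κ : MonoidAlgebra ℤ C) * mm * mm
  let f : MonoidAlgebra ℤ C := k1 * (mm * Ph - (p : MonoidAlgebra ℤ C) * tot) - (p : MonoidAlgebra ℤ C) * mm * e
  have hf2 : 2 * (f * f) = 2 * k1 * ((p : MonoidAlgebra ℤ C) * mm) * f := by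
    simp only [f, k1, e, mm] at *
    linear_combination (2 * ((D.κ : MonoidAlgebra ℤ C) * m * m) ^ 2 * (m : MonoidAlgebra ℤ C) * m) * hPhPh
      - (4 * ((D.κ : MonoidAlgebra ℤ C) * m * m) ^ 2 * (m : MonoidAlgebra ℤ C) * p) * hPt
      + (2 * ((D.κ : MonoidAlgebra ℤ C) * m * m) ^ 2 * (p : MonoidAlgebra ℤ C) * p) * htt
      - (4 * ((D.κ : MonoidAlgebra ℤ C) * m * m) * (p : MonoidAlgebra ℤ C) * m * m * A') * hA'P
      + (4 * ((D.κ : MonoidAlgebra ℤ C) * m * m) * (p : MonoidAlgebra ℤ C) * m * p * A') * hA't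
      + ((p : MonoidAlgebra ℤ C) * m * p * m) * he2
  have hfs : star' f = f := by
    simp only [f, k1, e, A', mm, map_sub, map_mul, map_intCast, map_natCast, star'_tot, hPhs, D.A_star]
  have hpos : 0 ≤ (f * f).coeff 1 := by
    rw [coeff_mul']
    refine Finset.sum_nonneg fun d _ => ?_
    have : f.coeff (d⁻¹ * 1) = f.coeff d := by rw [mul_one, ← coeff_star', hfs]
    rw [this]
    exact mul_self_nonneg _
  have he1 : e.coeff 1 = m * X * (m - X) := by
    simp only [e, coeff_mul', mul_one]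
    have hA'c : ∀ d, A'.coeff d = m * (S.A D.x).coeff d - X := fun d => by
      simp only [A', mm, coeff_sub, Finsupp.sub_apply, coeff_intCast_mul, coeff_tot, mul_one]
    have : ∀ d, A'.coeff d * A'.coeff d⁻¹ = (m * m - 2 * m * X) * (S.A D.x).coeff d + X * X := fun d => by
      rw [hA'c, hA'c, S.A_inv]
      rcases D.bin (.inl d) with a | a <;> simp only [co_inl] at a <;> simp only [A, a] <;> ring
    rw [Finset.sum_congr rfl (fun d _ => this d), Finset.sum_add_distrib, ← Finset.mul_sum, ← aug_eq, Finset.sum_const,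
      Finset.card_univ, ← Nat.card_eq_fintype_card, nsmul_eq_mul, ← hm, ← hX]
    ring
  have hf1 : f.coeff 1 = D.κ * m * m * (m - p) - p * m * (m * X * (m - X)) := by
    simp only [f, k1, mm, coeff_sub, Finsupp.sub_apply, mul_assoc, coeff_intCast_mul, coeff_natCast_mul', mul_sub, he1, hPh,
      coeff_tot, one_pow, if_true, mul_one]
  have hfin : 2 * (f * f).coeff 1 = 2 * (D.κ * m * m) * (p * m) * f.coeff 1 := by
    have h := congrArg (fun u => u.coeff 1) hf2
    have e1 : (2 : MonoidAlgebra ℤ C) = ((2 : ℤ) : MonoidAlgebra ℤ C) := (Int.cast_ofNat 2).symm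
    simp only [k1, mm, e1, mul_assoc, coeff_intCast_mul, coeff_natCast_mul'] at h
    linear_combination h
  have hm0 : 0 < m := by rw [hm]; exact_mod_cast Nat.card_pos
  have hc : 0 < (D.κ * m * m) * (p * m) := by positivity
  have hf1nn : 0 ≤ f.coeff 1 := by
    by_contra h
    push Not at h
    nlinarith [mul_neg_of_pos_of_neg hc h]
  rw [hf1] at hf1nn
  have : 0 ≤ m * m * (D.κ * (m - p) - p * X * (m - X)) := by linarith
  nlinarith [mul_pos hm0 hm0]

end Num

end SRing

end Cfsg.Agent.PermGp.DihedralRing
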