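import Cfsg.Agent.Lib.PermGp.DihedralRing.NoDesign

/-!
The two contradictions for a rank three symmetric Schur ring over a dihedral group.
-/

set_option autoImplicit false
set_option linter.all false

namespace Cfsg.Agent.PermGp.DihedralRing

open MonoidAlgebra

variable {C : Type*} [CommGroup C] [Fintype C]

namespace SRing

variable {S : SRing C} {p : ℕ} {ε : C}

theorem arith {p m X Y κ μ : ℤ} (hp : 3 ≤ p) (hX : p ≤ X) (hXm : X ≤ m - p) (hY : 0 ≤ Y)
    (h1 : X + Y = κ + μ) (h2 : 2 * (X * Y) = μ * m) (h3 : X ^ 2 + Y ^ 2 = κ + μ * m)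
    (h4 : p * X * (m - X) ≤ κ * (m - p)) : False := by
  obtain ⟨s, hs⟩ : ∃ s, s = X - Y := ⟨_, rfl⟩
  have hκ : κ = s * s := by rw [hs]; linear_combination -h3 + h2
  have hkey : κ * m = 2 * (X * (m - X)) - s * (m - 2 * X) := by
    have hμ : μ = X + Y - κ := by linarith
    rw [hs]
    subst hμ
    linear_combination h2
  have hZ : 0 < X * (m - X) := mul_pos (by linarith) (by linarith)
  have hle : X * (m - X) + 3 * (s * s) ≤ -(s * (m - 2 * X)) := by
    nlinarith [mul_nonneg (show 0 ≤ p - 3 by linarith) (mul_self_nonneg s),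
      mul_nonneg (show 0 ≤ p - 3 by linarith) hZ.le]
  have hkey2 : s * s * m = 2 * (X * (m - X)) - s * (m - 2 * X) := by rw [← hκ]; exact hkey
  have hm0 : 0 ≤ m := by linarith
  have hmX : 0 ≤ m - X := by linarith
  have hX0 : 0 ≤ X := by linarith
  have hs2 : s ≤ 2 := by
    by_contra h
    push Not at h
    have h3s : 3 ≤ s := by linarith
    have a1 : 0 ≤ (s - 3) * (s * m) := mul_nonneg (by linarith) (mul_nonneg (by linarith) hm0)
    have a2 : -(s * (m - 2 * X)) ≤ s * m := by
      have := mul_nonneg (show 0 ≤ s by linarith) hmX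
      linarith [mul_comm s (m - X), show s * (m - 2 * X) = 2 * (s * (m - X)) - s * m by ring]
    have a3 : 0 < s * s := mul_pos (by linarith) (by linarith)
    linarith [show (s - 3) * (s * m) = s * s * m - 3 * (s * m) by ring]
  have hs1 : -2 ≤ s := by
    by_contra h
    push Not at h
    have a1 : 0 ≤ (-s - 3) * (-s * m) := mul_nonneg (by linarith) (mul_nonneg (by linarith) hm0)
    have a2 : -(s * (m - 2 * X)) ≤ -s * m := by
      have := mul_nonneg (show 0 ≤ -s by linarith) hX0
      linarith [show s * (m - 2 * X) = s * m + 2 * (-s * X) by ring]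
    have a3 : 0 < s * s := mul_pos_of_neg_of_neg (by linarith) (by linarith)
    linarith [show (-s - 3) * (-s * m) = s * s * m - 3 * (-s * m) by ring]
  have b1 : 0 ≤ (2 + s) * ((m - 6) + (m - 2 * X)) := mul_nonneg (by linarith) (by linarith)
  have b2 : 0 ≤ (2 - s) * ((m - 6) - (m - 2 * X)) := mul_nonneg (by linarith) (by linarith)
  have b3 : 0 ≤ (X - 3) * (m - X - 3) := mul_nonneg (by linarith) (by linarith)
  linarith [mul_self_nonneg s,
    show (2 + s) * ((m - 6) + (m - 2 * X)) + (2 - s) * ((m - 6) - (m - 2 * X)) = 4 * (m - 6) + 2 * (s * (m - 2 * X)) by ring,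
    show (X - 3) * (m - X - 3) = X * (m - X) - 3 * m + 9 by ring]

theorem no_design_odd [IsCyclic C] (hp : p.Prime) (hodd : Odd p) (hε : orderOf ε = p) (D : S.Num p ε) : False := by
  classical
  have hεp : ε ^ p = 1 := hε ▸ pow_orderOf_eq_one ε
  have hp3 : 3 ≤ p := by
    rcases hp.two_le.lt_or_eq with h | h
    · omega
    · exact absurd (h ▸ hodd) (by decide)
  have hκ := D.kappa_pos hεp
  have h01 : ∀ c, (S.A D.x).coeff c = 0 ∨ (S.A D.x).coeff c = 1 := fun c => D.bin (.inl c)
  have hcard : ∀ c, p ≤ ((Finset.univ : Finset C).filter fun d => (S.A D.x).coeff d = (S.A D.x).coeff c).card := by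
    intro c
    refine le_trans (le_of_eq (Finset.card_range p).symm)
      (Finset.card_le_card_of_injOn (fun i => c * ε ^ i) (fun i _ => ?_) (fun i hi j hj h => ?_))
    · simp only [Finset.coe_filter, Finset.mem_univ, true_and, Set.mem_setOf_eq]
      exact D.stable c (ε ^ i) (by rw [← pow_mul, mul_comm, pow_mul, hεp, one_pow])
    · have := pow_inj_mod.1 (mul_left_cancel h)
      rwa [hε, Nat.mod_eq_of_lt (Finset.mem_range.1 hi), Nat.mod_eq_of_lt (Finset.mem_range.1 hj)] at this
  have hXeq : aug (S.A D.x) = (((Finset.univ : Finset C).filter fun d => (S.A D.x).coeff d = 1).card : ℤ) := by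
    rw [aug_eq, Finset.card_filter, Nat.cast_sum]
    refine Finset.sum_congr rfl fun d _ => ?_
    rcases h01 d with h | h <;> rw [h] <;> simp
  have hsplit : ((Finset.univ : Finset C).filter fun d => (S.A D.x).coeff d = 1).card +
      ((Finset.univ : Finset C).filter fun d => (S.A D.x).coeff d = 0).card = Nat.card C := by
    rw [← Finset.card_union_of_disjoint, Nat.card_eq_fintype_card, ← Finset.card_univ]
    · congr 1
      ext d
      rcases h01 d with h | h <;> simp [h]
    · rw [Finset.disjoint_filter]; intro d _ h; rw [h]; norm_num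
  obtain ⟨c₁, hc₁⟩ := D.mem
  have hX := hcard c₁
  rw [hc₁] at hX
  have hX' := hcard 1
  rw [D.one] at hX'
  refine arith (p := (p : ℤ)) (m := (Nat.card C : ℤ)) (by exact_mod_cast hp3) ?_ ?_ ?_ D.at_one D.aug_cross D.aug_sq
    (D.inequality hp.pos (hε ▸ orderOf_dvd_natCard ε) hκ)
  · rw [hXeq]; exact_mod_cast hX
  · rw [hXeq]; omega
  · rw [aug_eq]; exact Finset.sum_nonneg fun c _ => D.nonneg (.inr c)

theorem no_design_two {g : C} {a : ℕ} (hgen : ∀ c : C, c ∈ Submonoid.powers g) (hg : orderOf g = 2 ^ (a + 1))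
    (hε : ε = g ^ 2 ^ a) (D : S.Num 2 ε) : False := by
  classical
  have hε2 : ε * ε = 1 := by rw [hε, ← pow_add, ← two_mul, ← pow_succ', ← hg, pow_orderOf_eq_one]
  have hε1 : ε ≠ 1 := fun h => by
    have := orderOf_dvd_of_pow_eq_one (hε.symm.trans h)
    rw [hg, Nat.pow_dvd_pow_iff_le_right (by norm_num)] at this
    omega
  have hεp : ε ^ 2 = 1 := by rw [pow_two, hε2]
  have hκ := D.kappa_pos hεp
  have hst : ∀ c, (S.A D.x).coeff (c * ε) = (S.A D.x).coeff c := fun c => D.stable c ε hεp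
  -- four divides the constant
  have h4 : (4 : ℤ) ∣ D.κ := by
    obtain ⟨w, hw, hws⟩ := two_dvd_mul hε1 hε2 hst hst
    obtain ⟨w', hw', -⟩ := two_dvd_mul hε1 hε2 hws hst
    have h := D.cube
    rw [hw, mul_assoc, hw'] at h
    obtain ⟨c, hc⟩ := D.mem
    have e : ∀ d, (2 : ℤ) * (2 * (2 * w'.coeff d)) =
        2 * D.κ * (S.A D.x).coeff d + D.μ * (2 * aug (S.A D.x) - aug (S.B D.x)) := by
      intro d
      have h2 := congrArg (fun u => u.coeff d) h
      have e2 : (2 : MonoidAlgebra ℤ C) = ((2 : ℤ) : MonoidAlgebra ℤ C) := (Int.cast_ofNat 2).symm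
      simp only [e2, ← Int.cast_mul, mul_assoc, coeff_add, Finsupp.add_apply, coeff_intCast_mul, coeff_tot, mul_one] at h2
      linear_combination h2
    have h1 := e c
    have h0 := e 1
    rw [hc] at h1
    rw [D.one] at h0
    exact ⟨w'.coeff c - w'.coeff 1, by linarith⟩
  obtain ⟨c', hc'⟩ := h4
  obtain ⟨E, hE⟩ : ∃ E : MonoidAlgebra ℤ C, E = 1 - single ε 1 := ⟨_, rfl⟩
  obtain ⟨f, hf⟩ : ∃ f : MonoidAlgebra ℤ C, f = S.B D.x := ⟨_, rfl⟩
  have hEtot : E * tot = 0 := by rw [hE, mul_comm, tot_mul]; simp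
  have hEA : E * S.A D.x = 0 := by
    ext c
    rw [hE, coeff_E_mul, mul_comm ε⁻¹, show ε⁻¹ = ε from inv_eq_of_mul_eq_one_left hε2, hst]
    simp
  have hEff : E * (f * star' f) = 4 * (c' : MonoidAlgebra ℤ C) * E := by
    have h := congrArg (E * ·) D.sq
    simp only [hc', Int.cast_mul, Int.cast_ofNat] at h
    rw [hf]
    linear_combination h - (S.A D.x) * hEA + (D.μ : MonoidAlgebra ℤ C) * hEtot
  have hsE : star' E = E := by
    rw [hE, map_sub, map_one, star'_single, show ε⁻¹ = ε from inv_eq_of_mul_eq_one_left hε2]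
  obtain ⟨π, hπ⟩ : ∃ π : MonoidAlgebra ℤ C, π = 1 - single g 1 := ⟨_, rfl⟩
  have hgeom : ∀ i : ℕ, π ∣ 1 - single (g ^ i) 1 := fun i => by
    have h := sub_dvd_pow_sub_pow (1 : MonoidAlgebra ℤ C) (single g 1) i
    rw [one_pow, single_pow, one_pow] at h
    rwa [hπ]
  obtain ⟨G, hG⟩ : π ∣ 1 - single ε 1 := hε ▸ hgeom _
  have hE2 : 2 * E = E * (π * G) := by
    have hs : single ε (1 : ℤ) * single ε 1 = 1 := by rw [single_mul_single, hε2, mul_one, ← MonoidAlgebra.one_def]
    rw [← hG, hE]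
    linear_combination -hs
  have htf : ∀ z : MonoidAlgebra ℤ C, 2 * z = 0 → z = 0 := fun z hz => by
    ext c
    have h := congrArg (fun u => u.coeff c) hz
    rw [show (2 : MonoidAlgebra ℤ C) = ((2 : ℤ) : MonoidAlgebra ℤ C) from (Int.cast_ofNat 2).symm] at h
    simp only [coeff_intCast_mul, coeff_zero, Finsupp.zero_apply] at h
    simpa using h
  have hreg : ∀ z, E * (π * z) = 0 → E * z = 0 := fun z hz => htf _ (by
    linear_combination G * hz + z * hE2)
  obtain ⟨r, hr⟩ : ((2 : ℕ) : MonoidAlgebra ℤ C) ∣ π ^ 2 ^ a - fr (2 ^ a) π := pow_prime_pow_dvd Nat.prime_two π a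
  have hfr : fr (2 ^ a) π = 1 - single ε 1 := by rw [hπ, map_sub, map_one, fr_single, hε]
  rw [hfr, ← hE, Nat.cast_ofNat] at hr
  have hπh : E * π ^ 2 ^ a = 2 * E * (1 + r) := by
    have hEE : E * E = 2 * E := by rw [hE2, ← hG, ← hE]
    linear_combination E * hr + hEE
  have haug : aug (1 + r) = 1 := by
    have h := congrArg aug hr
    rw [map_sub, map_pow, map_mul, map_ofNat, hπ, hE, map_sub, map_sub, map_one, aug_single, aug_single] at h
    simp only [sub_self, zero_pow (pow_ne_zero a two_ne_zero), sub_zero] at h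
    rw [map_add, map_one]
    linarith
  have haugπ : aug π = 0 := by rw [hπ, map_sub, map_one, aug_single, sub_self]
  have hker : ∀ z : MonoidAlgebra ℤ C, π ∣ z - (aug z : MonoidAlgebra ℤ C) := by
    intro z
    have e : z - (aug z : MonoidAlgebra ℤ C) = ∑ c, (z.coeff c : MonoidAlgebra ℤ C) * (single c 1 - 1) := by
      simp only [mul_sub, Finset.sum_sub_distrib, mul_one, ← Int.cast_sum, ← aug_eq]
      congr 1
      conv_lhs => rw [eq_sum_single z]
      refine Finset.sum_congr rfl fun c _ => ?_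
      ext d
      rw [coeff_intCast_mul, coeff_single, coeff_single, Finsupp.single_apply, Finsupp.single_apply]
      split_ifs <;> simp
    rw [e]
    refine Finset.dvd_sum fun c _ => dvd_mul_of_dvd_right ?_ _
    obtain ⟨i, rfl⟩ := hgen c
    rw [dvd_sub_comm]
    exact hgeom i
  have hsπ : star' π = -(single g⁻¹ 1) * π := by
    rw [hπ, map_sub, map_one, star'_single, neg_mul, mul_sub, mul_one, single_mul_single, inv_mul_cancel, mul_one,
      ← MonoidAlgebra.one_def]
    ring
  have hstep : ∀ j, j ≤ 2 ^ a → ∃ z, E * f = E * (π ^ j * z) := by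
    intro j
    induction j with
    | zero => exact fun _ => ⟨f, by rw [pow_zero, one_mul]⟩
    | succ j ih =>
      intro hj
      obtain ⟨z, hz⟩ := ih (Nat.le_of_succ_le hj)
      have hzs : E * star' f = E * ((-(single g⁻¹ 1) * π) ^ j * star' z) := by
        have h := congrArg star' hz
        simpa only [map_mul, map_pow, hsE, hsπ] using h
      have h1 : E * ((π ^ j * z) * ((-(single g⁻¹ 1) * π) ^ j * star' z)) = 4 * (c' : MonoidAlgebra ℤ C) * E := by
        rw [← hEff]
        linear_combination -(π ^ j * z) * hzs - (star' f) * hz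
      obtain ⟨t, ht⟩ : ∃ t, 2 ^ a = j + (t + 1) := ⟨2 ^ a - j - 1, by omega⟩
      obtain ⟨w, hw⟩ : ∃ w, w = z * star' z * (-(single g⁻¹ 1)) ^ j * ((1 + r) * (1 + r)) -
          (c' : MonoidAlgebra ℤ C) * π ^ (2 * (t + 1)) := ⟨_, rfl⟩
      have hsq : E * (π ^ 2 ^ a * π ^ 2 ^ a) = 4 * E * ((1 + r) * (1 + r)) := by
        linear_combination (π ^ 2 ^ a + 2 * (1 + r)) * hπh
      have h2 : ∀ n, E * (π ^ n * w) = 0 → E * w = 0 := by
        intro n
        induction n with
        | zero => intro h; rwa [pow_zero, one_mul] at h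
        | succ n ihn => intro h; exact ihn (hreg _ (by rw [← h]; ring))
      have h3 : E * w = 0 := h2 (2 * j) (by
        rw [ht] at hsq
        rw [hw]
        rw [mul_pow] at h1
        linear_combination ((1 + r) * (1 + r)) * h1 - (c' : MonoidAlgebra ℤ C) * hsq)
      have h4 : 2 ∣ aug w := aug_dvd_two hε1 hε2 (hE ▸ h3)
      rw [hw, map_sub, map_mul, map_mul, map_mul, map_mul, map_mul, map_pow, map_pow, haug, haugπ, aug_star', map_neg,
        aug_single, zero_pow (by omega), mul_zero, sub_zero, mul_one, mul_one] at h4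
      have h5 : 2 ∣ aug z := by
        rcases Int.prime_two.dvd_or_dvd (show (2 : ℤ) ∣ aug z * aug z by
          rcases neg_one_pow_eq_or ℤ j with e | e <;> rw [e] at h4 <;> simpa using h4) with h | h <;> exact h
      obtain ⟨k, hk⟩ := h5
      obtain ⟨l, hl⟩ := hker z
      refine ⟨G * (k : MonoidAlgebra ℤ C) + l, ?_⟩
      rw [hk, Int.cast_mul, Int.cast_ofNat] at hl
      rw [hz]
      linear_combination (E * π ^ j) * hl + ((k : MonoidAlgebra ℤ C) * π ^ j) * hE2
  obtain ⟨z, hz⟩ := hstep (2 ^ a) le_rfl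
  have hfin : E * f = 2 * (E * (1 + r) * z) := by rw [hz]; linear_combination z * hπh
  refine D.Y ?_
  rw [← hE, ← hf]
  ext c
  have hev := congrArg (fun u => u.coeff c) hfin
  rw [show (2 : MonoidAlgebra ℤ C) = ((2 : ℤ) : MonoidAlgebra ℤ C) from (Int.cast_ofNat 2).symm] at hev
  simp only [coeff_intCast_mul] at hev
  rw [coeff_zero, Finsupp.zero_apply]
  rw [hE, coeff_E_mul, hf] at hev ⊢
  rcases D.bin (.inr c) with u | u <;> rcases D.bin (.inr (ε⁻¹ * c)) with v | v <;>
    simp only [co_inr] at u v <;> simp only [B] at hev ⊢ <;> omega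

end SRing

end Cfsg.Agent.PermGp.DihedralRing
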