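import Cfsg.Agent.Lib.PermGp.DihedralRing.Galois
import Cfsg.Agent.Lib.Recog.SchurCyclic

/-!
The Schur ring of a primitive group with a regular dihedral subgroup.
-/

set_option autoImplicit false
set_option linter.all false

namespace Cfsg.Agent.PermGp.DihedralRing

open MonoidAlgebra MulAction Recog.SchurCyclic

variable {G Ω : Type*} [Group G] [MulAction G Ω] {D : Subgroup G} {ω : Ω}
  {C : Type*} [CommGroup C] [Fintype C]

/-- The matrix of a function on the dihedral group. -/
noncomputable def ofFun (g : C ⊕ C → ℤ) : Matrix (Fin 2) (Fin 2) (MonoidAlgebra ℤ C) :=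
  !![∑ c, single c (g (.inl c)), ∑ c, single c (g (.inr c));
    star' (∑ c, single c (g (.inr c))), star' (∑ c, single c (g (.inl c)))]

theorem co_ofFun (g : C ⊕ C → ℤ) (d : C ⊕ C) : co (ofFun g) d = g d := by
  classical
  rcases d with c | c <;> simp [co, ofFun, coeff_sum, Finsupp.single_apply]

theorem co_mul (x y : Matrix (Fin 2) (Fin 2) (MonoidAlgebra ℤ C)) (hy1 : y 1 0 = star' (y 0 1))
    (hy2 : y 1 1 = star' (y 0 0)) (c : C) :
    co (x * y) (.inl c) = ∑ u, co x (.inl u) * co y (.inl (u⁻¹ * c)) + ∑ u, co x (.inr u) * co y (.inr (c⁻¹ * u)) ∧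
    co (x * y) (.inr c) = ∑ u, co x (.inl u) * co y (.inr (u⁻¹ * c)) + ∑ u, co x (.inr u) * co y (.inl (c⁻¹ * u)) := by
  constructor <;>
  · simp only [co, Sum.elim_inl, Sum.elim_inr, Matrix.mul_apply, Fin.sum_univ_two, coeff_add, Finsupp.add_apply, hy1, hy2,
      coeff_mul', coeff_star', _root_.mul_inv_rev, inv_inv]

/-- The data of a regular dihedral subgroup. -/
structure Dih (D : Subgroup G) (ω : Ω) (C : Type*) [CommGroup C] where
  ι : C →* D
  s : D
  hbij : Function.Bijective (fun x : D => (x : G) • ω)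
  he : Function.Bijective (Sum.elim (fun c => ι c) (fun c => ι c * s))
  hs : s * s = 1
  conj : ∀ c, s * ι c = ι c⁻¹ * s

namespace Dih

variable (H : Dih D ω C)

/-- The parametrisation. -/
noncomputable def e : C ⊕ C ≃ D := Equiv.ofBijective _ H.he

theorem e_inl (c : C) : H.e (.inl c) = H.ι c := rfl

theorem e_inr (c : C) : H.e (.inr c) = H.ι c * H.s := rfl

/-- The function of a matrix. -/
noncomputable def F (x : Matrix (Fin 2) (Fin 2) (MonoidAlgebra ℤ C)) : D → ℤ := fun d => co x (H.e.symm d)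

theorem F_e (x : Matrix (Fin 2) (Fin 2) (MonoidAlgebra ℤ C)) (d : C ⊕ C) : H.F x (H.e d) = co x d := by
  simp [F]

variable [Fintype D]

theorem invF_comp {f : D → ℤ} (φ : ℤ → ℤ) (hf : InvF D ω f) : InvF D ω (φ ∘ f) :=
  fun g hg x y h => congrArg φ (hf g hg x y h)

theorem F_mul (x y : Matrix (Fin 2) (Fin 2) (MonoidAlgebra ℤ C)) (hy1 : y 1 0 = star' (y 0 1))
    (hy2 : y 1 1 = star' (y 0 0)) : H.F (x * y) = fun d => ∑ z, H.F x z * H.F y (z⁻¹ * d) := by
  funext d
  obtain ⟨d, rfl⟩ := H.e.surjective d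
  rw [F_e, ← Fintype.sum_equiv H.e (fun z => H.F x (H.e z) * H.F y ((H.e z)⁻¹ * H.e d)) _ (fun _ => rfl),
    Fintype.sum_sum_type]
  have hsinv : H.s⁻¹ = H.s := inv_eq_of_mul_eq_one_left H.hs
  rcases d with c | c
  · rw [(co_mul x y hy1 hy2 c).1]
    congr 1 <;> refine Finset.sum_congr rfl fun u _ => ?_
    · rw [F_e, e_inl, e_inl, ← map_inv, ← map_mul, ← e_inl, F_e]
    · rw [F_e, e_inr, e_inl, _root_.mul_inv_rev, hsinv, mul_assoc, ← map_inv, ← map_mul, H.conj, mul_inv, inv_inv,
        mul_comm u c⁻¹, ← e_inr, F_e]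
  · rw [(co_mul x y hy1 hy2 c).2]
    congr 1 <;> refine Finset.sum_congr rfl fun u _ => ?_
    · rw [F_e, e_inl, e_inr, ← map_inv, ← mul_assoc, ← map_mul, ← e_inr, F_e]
    · rw [F_e, e_inr, e_inr, _root_.mul_inv_rev, hsinv, mul_assoc, ← mul_assoc _ (H.ι c), ← map_inv, ← map_mul,
        ← mul_assoc, H.conj, mul_inv, inv_inv, mul_assoc, H.hs, mul_one, mul_comm u c⁻¹, ← e_inl, F_e]

/-- The matrices of invariant functions. -/
noncomputable def pre : Subring (Matrix (Fin 2) (Fin 2) (MonoidAlgebra ℤ C)) where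
  carrier := {x | x 1 0 = star' (x 0 1) ∧ x 1 1 = star' (x 0 0) ∧ InvF D ω (H.F x)}
  one_mem' := by
    classical
    refine ⟨by simp, by simp, ?_⟩
    have hF : H.F 1 = fun d => if d = 1 then 1 else 0 := by
      funext d
      obtain ⟨d, rfl⟩ := H.e.surjective d
      rw [F_e]
      have h1 : H.e (.inl 1) = 1 := by rw [e_inl, map_one]
      conv_rhs => arg 1; rw [← h1, H.e.injective.eq_iff]
      rcases d with c | c
      · show ((1 : Matrix (Fin 2) (Fin 2) (MonoidAlgebra ℤ C)) 0 0).coeff c = _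
        simp [MonoidAlgebra.one_def, Finsupp.single_apply, eq_comm]
      · show ((1 : Matrix (Fin 2) (Fin 2) (MonoidAlgebra ℤ C)) 0 1).coeff c = _
        simp
    rw [hF]
    intro g hg x y hxy
    refine if_congr ⟨fun h => ?_, fun h => ?_⟩ rfl rfl
    · refine H.hbij.1 (show (y : G) • ω = ((1 : D) : G) • ω from ?_)
      rw [← hxy, h, Subgroup.coe_one, one_smul, hg]
    · refine H.hbij.1 (show (x : G) • ω = ((1 : D) : G) • ω from ?_)
      rw [h, Subgroup.coe_one, one_smul] at hxy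
      rw [Subgroup.coe_one, one_smul]
      exact MulAction.injective g (hxy.trans hg.symm)
  zero_mem' := ⟨by simp, by simp, fun g hg x y h => by simp [F, co]⟩
  add_mem' {x y} hx hy := ⟨by simp [hx.1, hy.1], by simp [hx.2.1, hy.2.1], fun g hg u v h => by
    have e : ∀ d, H.F (x + y) d = H.F x d + H.F y d := fun d => by
      unfold F; rcases H.e.symm d <;> rfl
    rw [e, e, hx.2.2 g hg u v h, hy.2.2 g hg u v h]⟩
  neg_mem' {x} hx := ⟨by simp [hx.1], by simp [hx.2.1], fun g hg u v h => by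
    have e : ∀ d, H.F (-x) d = -H.F x d := fun d => by
      unfold F; rcases H.e.symm d <;> rfl
    rw [e, e, hx.2.2 g hg u v h]⟩
  mul_mem' {x y} hx hy := by
    refine ⟨?_, ?_, ?_⟩
    · simp only [Matrix.mul_apply, Fin.sum_univ_two, map_add, map_mul, hx.1, hx.2.1, hy.1, hy.2.1, star'_star']; ring
    · simp only [Matrix.mul_apply, Fin.sum_univ_two, map_add, map_mul, hx.1, hx.2.1, hy.1, hy.2.1, star'_star']; ring
    · rw [H.F_mul x y hy.1 hy.2.1]
      exact invF_conv D ω H.hbij hx.2.2 hy.2.2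

variable [IsPreprimitive G Ω]

theorem ofFun_mem {g : C ⊕ C → ℤ} (hg : InvF D ω (fun d => g (H.e.symm d))) : ofFun g ∈ H.pre :=
  ⟨rfl, rfl, by
    have e : H.F (ofFun g) = fun d => g (H.e.symm d) := funext fun d => co_ofFun g _
    rw [e]; exact hg⟩

include H in
theorem closed_trivial (U : Set D) (hU : InvS D ω U) (hsub : Subgroup.closure U ≠ ⊤) : ∀ u ∈ U, u = 1 := by
  intro u hu
  have h := (invariant_subgroup D ω H.hbij (invS_closure D ω H.hbij hU)).resolve_right hsub
  exact Subgroup.mem_bot.1 (h ▸ Subgroup.subset_closure hu)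

theorem sym_mem {x : Matrix (Fin 2) (Fin 2) (MonoidAlgebra ℤ C)} (hx : x ∈ H.pre) : Sym x := by
  suffices h : star' (x 0 0) = x 0 0 from ⟨hx.1, hx.2.1.trans h, h⟩
  let U : Set D := {d | H.F x d ≠ H.F x d⁻¹}
  have hU : InvS D ω U := fun g hg u v h =>
    propext (not_congr (by
      have h' : H.F x u⁻¹ = H.F x v⁻¹ := invF_inv D ω H.hbij hx.2.2 g hg u v h
      rw [hx.2.2 g hg u v h, h']))
  have hle : Subgroup.closure U ≤ H.ι.range := by
    rw [Subgroup.closure_le]
    intro d hd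
    obtain ⟨d, rfl⟩ := H.e.surjective d
    rcases d with c | c
    · exact ⟨c, rfl⟩
    · refine absurd ?_ hd
      rw [show (H.e (.inr c))⁻¹ = H.e (.inr c) by
        rw [e_inr, _root_.mul_inv_rev, inv_eq_of_mul_eq_one_left H.hs, ← map_inv, H.conj, inv_inv]]
  have hne : Subgroup.closure U ≠ ⊤ := by
    intro h
    obtain ⟨c, hc⟩ := hle (h ▸ Subgroup.mem_top H.s)
    have h2 : H.e (.inl c) = H.e (.inr 1) := by rw [e_inl, e_inr, map_one, one_mul, hc]
    exact Sum.inl_ne_inr (H.e.injective h2)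
  ext c
  rw [coeff_star']
  by_contra hne'
  have h1 := H.closed_trivial U hU hne (H.e (.inl c)) (by
    show H.F x (H.e (.inl c)) ≠ H.F x (H.e (.inl c))⁻¹
    rw [F_e, e_inl, ← map_inv, ← e_inl, F_e]
    exact Ne.symm hne')
  rw [e_inl] at h1
  have : c = 1 := Sum.inl.inj (H.e.injective (show H.e (.inl c) = H.e (.inl 1) by rw [e_inl, e_inl, h1, map_one]))
  exact hne' (by rw [this, inv_one])

/-- The Schur ring. -/
noncomputable def sRing : SRing C where
  M := H.pre
  sym x hx := H.sym_mem hx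
  all_one := ⟨ofFun fun _ => 1, H.ofFun_mem (fun _ _ _ _ _ => rfl), fun d => co_ofFun _ d⟩
  map x hx y hy φ := ⟨ofFun fun d => φ (co x d) (co y d), H.ofFun_mem (fun g hg u v h => by
      show φ (H.F x u) (H.F y u) = φ (H.F x v) (H.F y v)
      rw [hx.2.2 g hg u v h, hy.2.2 g hg u v h]), fun d => co_ofFun _ d⟩
  prim x hx hpos h1 hsq := by
    let U : Set D := {d | H.F x d ≠ 0}
    have hU : InvS D ω U := fun g hg u v h => propext (not_congr (by rw [hx.2.2 g hg u v h]))
    have hmul : ∀ u ∈ U, ∀ v ∈ U, u * v ∈ U := by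
      intro u hu v hv
      obtain ⟨w, hw⟩ := H.e.surjective (u * v)
      show H.F x (u * v) ≠ 0
      rw [← hw, F_e]
      refine hsq w ?_
      rw [← H.F_e (x * x), hw, H.F_mul x x hx.1 hx.2.1]
      refine (lt_of_lt_of_le (mul_pos (lt_of_le_of_ne (hpos _) (Ne.symm hu)) (lt_of_le_of_ne (hpos _) (Ne.symm hv))) ?_).ne'
      refine le_trans (le_of_eq ?_) (Finset.single_le_sum (f := fun z => H.F x z * H.F x (z⁻¹ * (u * v)))
        (fun z _ => mul_nonneg (hpos _) (hpos _)) (Finset.mem_univ u))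
      simp only [F, inv_mul_cancel_left]
    have hone : (1 : D) ∈ U := by
      show H.F x 1 ≠ 0
      rw [← map_one H.ι, ← H.e_inl, F_e]; exact h1
    have hinv : ∀ u ∈ U, u⁻¹ ∈ U := by
      intro u hu
      have : ∀ n : ℕ, u ^ n ∈ U := by
        intro n
        induction n with
        | zero => rw [pow_zero]; exact hone
        | succ n ih => rw [pow_succ]; exact hmul _ ih _ hu
      obtain ⟨k, hk⟩ := Nat.exists_eq_succ_of_ne_zero (orderOf_pos u).ne'
      rw [inv_eq_of_mul_eq_one_left (show u ^ k * u = 1 by rw [← pow_succ, ← Nat.succ_eq_add_one, ← hk, pow_orderOf_eq_one])]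
      exact this k
    let K : Subgroup D :=
      { carrier := U
        one_mem' := hone
        mul_mem' := fun ha hb => hmul _ ha _ hb
        inv_mem' := fun ha => hinv _ ha }
    rcases invariant_subgroup D ω H.hbij (K := K) hU with h | h
    · refine Or.inr fun d hd => ?_
      have h2 : H.e d ∈ K := show H.F x (H.e d) ≠ 0 by rwa [F_e]
      rw [h, Subgroup.mem_bot] at h2
      exact H.e.injective (by rw [h2, e_inl, map_one])
    · refine Or.inl fun d => ?_
      have h2 : H.e d ∈ K := h ▸ Subgroup.mem_top _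
      have h3 : H.F x (H.e d) ≠ 0 := h2
      rwa [F_e] at h3
  stab x hx e he hinv d := by
    let U : Set D := {z | H.F x z = co x (.inl 1)}
    have hU : InvS D ω U := fun g hg u v h => by
      show (H.F x u = _) = (H.F x v = _)
      rw [hx.2.2 g hg u v h]
    let T : Subgroup D :=
      { carrier := {a | ∀ z, a * z ∈ U ↔ z ∈ U}
        one_mem' := fun z => by rw [one_mul]
        mul_mem' := fun {a b} ha hb z => by rw [mul_assoc, ha, hb]
        inv_mem' := fun {a} ha z => by rw [← ha (a⁻¹ * z), mul_inv_cancel_left] }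
    have heT : H.ι e ∈ T := fun z => by
      obtain ⟨z, rfl⟩ := H.e.surjective z
      show (H.F x _ = _) ↔ (H.F x _ = _)
      rcases z with c | c
      · rw [e_inl, ← map_mul, ← e_inl, F_e, ← e_inl, F_e]
        have := hinv (.inl c)
        simp only [Sum.map_inl] at this
        rw [this]
      · rw [e_inr, ← mul_assoc, ← map_mul, ← e_inr, F_e, ← e_inr, F_e]
        have := hinv (.inr c)
        simp only [Sum.map_inr] at this
        rw [this]
    rcases invariant_subgroup D ω H.hbij (K := T) (invS_stab D ω H.hbij hU) with h | h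
    · rw [h, Subgroup.mem_bot] at heT
      refine absurd (Sum.inl.inj (H.e.injective (show H.e (.inl e) = H.e (.inl 1) from ?_))) he
      rw [e_inl, e_inl, heT, map_one]
    · have hd := (h ▸ Subgroup.mem_top (H.e d) : H.e d ∈ T) 1
      rw [mul_one] at hd
      have h1 : (1 : D) ∈ U := by
        show H.F x 1 = _
        rw [← map_one H.ι, ← e_inl, F_e]
      have h2 : H.F x (H.e d) = co x (.inl 1) := hd.2 h1
      rwa [F_e] at h2

include H in
theorem stab_transitive [IsCyclic C] [Nontrivial C] (x y : D) (hx : x ≠ 1) (hy : y ≠ 1) :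
    ∃ g : G, g • ω = ω ∧ g • ((x : G) • ω) = (y : G) • ω := by
  classical
  obtain ⟨c₁, hc₁⟩ := exists_ne (1 : C)
  suffices key : ∀ z : D, z ≠ 1 → ∃ g : G, g • ω = ω ∧ g • ((z : G) • ω) = (H.ι c₁ : G) • ω by
    obtain ⟨g, hg, hgx⟩ := key x hx
    obtain ⟨k, hk, hky⟩ := key y hy
    exact ⟨k⁻¹ * g, by rw [mul_smul, hg, inv_smul_eq_iff, hk], by rw [mul_smul, hgx, ← hky, inv_smul_smul]⟩
  intro z hz
  let U : Set D := {w | ∃ g : G, g • ω = ω ∧ g • ((z : G) • ω) = (w : G) • ω}
  have hU : InvS D ω U := invS_orbit D ω H.hbij z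
  have hind : InvF D ω (fun d => if H.e (H.e.symm d) ∈ U then (1 : ℤ) else 0) := fun g hg u w h => by
    simp only [Equiv.apply_symm_apply]
    exact if_congr (Iff.of_eq (hU g hg u w h)) rfl rfl
  obtain ⟨v, hv⟩ : ∃ v : H.sRing.M, v.1 = ofFun fun d => if H.e d ∈ U then 1 else 0 :=
    ⟨⟨_, H.ofFun_mem (g := fun d => if H.e d ∈ U then 1 else 0) hind⟩, rfl⟩
  have hvc : ∀ d, co v.1 d = if H.e d ∈ U then 1 else 0 := fun d => by rw [hv, co_ofFun]
  have h1 : H.e (.inl 1) ∉ U := by
    rintro ⟨g, hg, h⟩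
    rw [e_inl, map_one, Subgroup.coe_one, one_smul] at h
    refine hz (H.hbij.1 (show (z : G) • ω = ((1 : D) : G) • ω from ?_))
    rw [Subgroup.coe_one, one_smul]
    exact MulAction.injective g (h.trans hg.symm)
  suffices hmem : H.e (.inl c₁) ∈ U from hmem
  by_contra hc
  have hA : H.sRing.A v = 0 := by
    ext c
    show co v.1 (.inl c) = _
    rw [coeff_zero, Finsupp.zero_apply]
    by_cases hc1 : c = 1
    · rw [hc1, hvc, if_neg h1]
    · refine (H.sRing.A_const v c c₁ hc1 hc₁).trans ?_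
      show co v.1 (.inl c₁) = 0
      rw [hvc, if_neg hc]
  obtain ⟨d, hd⟩ := H.e.surjective z
  have h2 : co v.1 d = 1 := by rw [hvc, if_pos (hd ▸ ⟨1, one_smul _ _, one_smul _ _⟩)]
  rw [H.sRing.sOnly hA] at h2
  rcases d with c | c <;> simp [co] at h2

end Dih

end Cfsg.Agent.PermGp.DihedralRing
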