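import Cfsg.Agent.Lib.PermGp.DihedralRing.Basic

/-!
No element of a primitive symmetric Schur ring over a dihedral group has first component supported
on the elements of order prime to an odd prime divisor of the order of the cyclic half.
-/

set_option autoImplicit false
set_option linter.all false

namespace Cfsg.Agent.PermGp.DihedralRing

open MonoidAlgebra

variable {C : Type*} [CommGroup C] [Fintype C]

theorem fr_fr (k l : ℕ) (x : MonoidAlgebra ℤ C) : fr k (fr l x) = fr (l * k) x := by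
  rw [eq_sum_single x, map_sum, map_sum, map_sum]
  simp [← pow_mul]

theorem fr_one (x : MonoidAlgebra ℤ C) : fr 1 x = x := by
  conv_lhs => rw [eq_sum_single x, map_sum]
  simp [← eq_sum_single]

theorem pow_prime_pow_dvd {p : ℕ} (hp : p.Prime) (x : MonoidAlgebra ℤ C) :
    ∀ l : ℕ, (p : MonoidAlgebra ℤ C) ∣ x ^ p ^ l - fr (p ^ l) x := by
  intro l
  induction l with
  | zero => simp [fr_one]
  | succ l ih =>
    rw [pow_succ, pow_mul, ← fr_fr]
    have h1 : (p : MonoidAlgebra ℤ C) ∣ (x ^ p ^ l) ^ p - (fr (p ^ l) x) ^ p :=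
      dvd_trans ih (sub_dvd_pow_sub_pow _ _ _)
    simpa using dvd_add h1 (pow_prime_dvd hp (fr (p ^ l) x))

/-- The elements of the group ring supported on the kernel of a power map. -/
def sub0 (m' : ℕ) : Subring (MonoidAlgebra ℤ C) where
  carrier := {x | ∀ c : C, c ^ m' ≠ 1 → x.coeff c = 0}
  one_mem' c hc := by
    classical
    rw [MonoidAlgebra.one_def, coeff_single, Finsupp.single_apply, if_neg]
    rintro rfl; exact hc (one_pow _)
  zero_mem' c _ := by simp
  add_mem' {x y} hx hy c hc := by simp [hx c hc, hy c hc]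
  neg_mem' {x} hx c hc := by simp [hx c hc]
  mul_mem' {x y} hx hy c hc := by
    rw [coeff_mul']
    refine Finset.sum_eq_zero fun d _ => ?_
    by_cases hd : d ^ m' = 1
    · rw [hy (d⁻¹ * c) (by rwa [mul_pow, inv_pow, hd, inv_one, one_mul]), mul_zero]
    · rw [hx d hd, zero_mul]

theorem binom (u v w : MonoidAlgebra ℤ C) (n : ℕ) :
    ((!![u, v; w, u] : Matrix (Fin 2) (Fin 2) (MonoidAlgebra ℤ C)) ^ n) 0 0 =
      ∑ i ∈ Finset.range (n + 1), (n.choose i : MonoidAlgebra ℤ C) *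
        (u ^ (n - i) * if Even i then (v * w) ^ (i / 2) else 0) := by
  classical
  have e : (!![u, v; w, u] : Matrix (Fin 2) (Fin 2) (MonoidAlgebra ℤ C)) = !![0, v; w, 0] + Matrix.scalar (Fin 2) u := by
    refine Matrix.ext fun i j => ?_
    fin_cases i <;> fin_cases j <;> simp
  have hN2 : (!![0, v; w, 0] : Matrix (Fin 2) (Fin 2) (MonoidAlgebra ℤ C)) ^ 2 = Matrix.scalar (Fin 2) (v * w) := by
    refine Matrix.ext fun i j => ?_
    fin_cases i <;> fin_cases j <;> simp [pow_two, Matrix.mul_apply, Fin.sum_univ_two, mul_comm w v]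
  have hNi : ∀ i, ((!![0, v; w, 0] : Matrix (Fin 2) (Fin 2) (MonoidAlgebra ℤ C)) ^ i) 0 0 =
      if Even i then (v * w) ^ (i / 2) else 0 := by
    intro i
    obtain ⟨j, rfl | rfl⟩ := Nat.even_or_odd' i
    · rw [pow_mul, hN2, ← map_pow, if_pos (even_two_mul j), Nat.mul_div_cancel_left _ two_pos]
      simp
    · rw [pow_succ, pow_mul, hN2, ← map_pow, if_neg (by simp)]
      simp [Matrix.mul_apply, Fin.sum_univ_two]
  rw [e, ((Matrix.scalar_commute u (fun _ => Commute.all _ _) _).symm).add_pow, Matrix.sum_apply]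
  refine Finset.sum_congr rfl fun i hi => ?_
  rw [← map_pow (Matrix.scalar (Fin 2)), ← map_natCast (Matrix.scalar (Fin 2)), mul_assoc, ← map_mul, ← hNi i]
  generalize (!![0, v; w, 0] : Matrix (Fin 2) (Fin 2) (MonoidAlgebra ℤ C)) ^ i = Z
  simp [Matrix.mul_apply, Fin.sum_univ_two]
  ring

namespace SRing

variable (S : SRing C)

theorem val_eq (x : S.M) : x.1 = !![S.A x, S.B x; star' (S.B x), S.A x] := by
  refine Matrix.ext fun i j => ?_
  fin_cases i <;> fin_cases j
  · rfl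
  · rfl
  · exact (S.sym x.1 x.2).1
  · exact (S.sym x.1 x.2).2.1

theorem A_pow (x : S.M) (n : ℕ) :
    S.A (x ^ n) = ∑ i ∈ Finset.range (n + 1), (n.choose i : MonoidAlgebra ℤ C) *
      (S.A x ^ (n - i) * if Even i then (S.B x * star' (S.B x)) ^ (i / 2) else 0) := by
  show (x ^ n : S.M).1 0 0 = _
  rw [SubmonoidClass.coe_pow, S.val_eq x, binom]

theorem A_pow_prime {p : ℕ} (hp : p.Prime) (hodd : Odd p) (x : S.M) :
    (p : MonoidAlgebra ℤ C) ∣ S.A (x ^ p) - S.A x ^ p := by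
  rw [A_pow, Finset.sum_range_succ']
  simp only [Nat.choose_zero_right, Nat.cast_one, one_mul, Nat.sub_zero, if_pos Even.zero, Nat.zero_div, pow_zero, mul_one,
    add_sub_cancel_right]
  refine Finset.dvd_sum fun i hi => ?_
  rcases Nat.lt_or_eq_of_le (Nat.succ_le_of_lt (Finset.mem_range.1 hi)) with h | h
  · exact dvd_mul_of_dvd_left (Nat.cast_dvd_cast (hp.dvd_choose_self i.succ_ne_zero h)) _
  · rw [if_neg (by rw [show i + 1 = p from h]; exact Nat.not_even_iff_odd.2 hodd), mul_zero, mul_zero]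
    exact dvd_zero _

/-- The norm of an element. -/
noncomputable def nm (x : S.M) : MonoidAlgebra ℤ C := S.A x * S.A x - S.B x * star' (S.B x)

theorem nm_mul (x y : S.M) : S.nm (x * y) = S.nm x * S.nm y := by
  have h := S.B_star_comm x y
  simp only [nm, A_mul, B_mul, map_add, map_mul, S.star_A]
  linear_combination (S.B x * star' (S.B y) + S.A x * S.A y) * h

theorem nm_pow (x : S.M) : ∀ n : ℕ, S.nm (x ^ n) = S.nm x ^ n
  | 0 => by simp [nm, A_one, B_one]
  | n + 1 => by rw [pow_succ, nm_mul, nm_pow x n, pow_succ]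

theorem A_pow_prime_pow {p : ℕ} (hp : p.Prime) (hodd : Odd p) (x : S.M) :
    ∀ l : ℕ, (p : MonoidAlgebra ℤ C) ∣ S.A (x ^ p ^ l) - S.A x ^ p ^ l := by
  intro l
  induction l with
  | zero => simp
  | succ l ih =>
    rw [pow_succ, pow_mul, pow_mul]
    have h1 := S.A_pow_prime hp hodd (x ^ p ^ l)
    have h2 : (p : MonoidAlgebra ℤ C) ∣ S.A (x ^ p ^ l) ^ p - (S.A x ^ p ^ l) ^ p :=
      dvd_trans ih (sub_dvd_pow_sub_pow _ _ _)
    simpa using dvd_add h1 h2

/-- The singular coefficients of a high prime power are highly divisible. -/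
theorem singular_pow {p m' a : ℕ} (hp : p.Prime) (hodd : Odd p) (hcard : Nat.card C = p ^ a * m') (x : S.M) (L : ℕ)
    (c : C) (hc : c ^ m' ≠ 1) : ((p : ℤ) ^ L) ∣ (S.A (x ^ p ^ (a + L))).coeff c := by
  classical
  obtain ⟨y, hy⟩ : ∃ y, y = x ^ p ^ a := ⟨_, rfl⟩
  have hfr : ∀ z : MonoidAlgebra ℤ C, fr (p ^ a) z ∈ sub0 m' := by
    intro z d hd
    rw [coeff_fr]
    refine Finset.sum_eq_zero fun e _ => if_neg fun he => hd ?_
    rw [← he, ← pow_mul, ← hcard, pow_card_eq_one']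
  obtain ⟨u₀, hu₀, hu⟩ : ∃ u₀ ∈ sub0 m', (p : MonoidAlgebra ℤ C) ∣ S.A y - u₀ :=
    ⟨_, hfr (S.A x), by
      simpa [hy] using dvd_add (S.A_pow_prime_pow hp hodd x a) (pow_prime_pow_dvd hp (S.A x) a)⟩
  obtain ⟨W₀, hW₀, hW⟩ : ∃ W₀ ∈ sub0 m', (p : MonoidAlgebra ℤ C) ∣ S.B y * star' (S.B y) - W₀ := by
    refine ⟨u₀ * u₀ - fr (p ^ a) (S.nm x), Subring.sub_mem _ (Subring.mul_mem _ hu₀ hu₀) (hfr _), ?_⟩
    have h := pow_prime_pow_dvd hp (S.nm x) a
    rw [← nm_pow, ← hy, nm] at h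
    have e : S.B y * star' (S.B y) - (u₀ * u₀ - fr (p ^ a) (S.nm x)) =
        (S.A y - u₀) * (S.A y + u₀) - (S.A y * S.A y - S.B y * star' (S.B y) - fr (p ^ a) (S.nm x)) := by ring
    rw [e]
    exact dvd_sub (dvd_mul_of_dvd_left hu _) h
  have hsplit : S.A (x ^ p ^ (a + L)) = S.A (y ^ p ^ L) := by rw [hy, ← pow_mul, ← pow_add]
  obtain ⟨q, hq⟩ : ∃ q, q = p ^ L := ⟨_, rfl⟩
  obtain ⟨T, hT⟩ : ∃ T : MonoidAlgebra ℤ C, T = ∑ i ∈ Finset.range (q + 1), (q.choose i : MonoidAlgebra ℤ C) *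
      (u₀ ^ (q - i) * if Even i then W₀ ^ (i / 2) else 0) := ⟨_, rfl⟩
  have hT0 : T ∈ sub0 m' := by
    rw [hT]
    refine Subring.sum_mem _ fun i _ => Subring.mul_mem _ (natCast_mem _ _) (Subring.mul_mem _ (Subring.pow_mem _ hu₀ _) ?_)
    split_ifs
    · exact Subring.pow_mem _ hW₀ _
    · exact Subring.zero_mem _
  have hdiv : ((p ^ L : ℕ) : MonoidAlgebra ℤ C) ∣ S.A (x ^ p ^ (a + L)) - T := by
    rw [hsplit, ← hq, A_pow, hT, ← Finset.sum_sub_distrib]
    refine Finset.dvd_sum fun i hi => ?_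
    split_ifs with hev
    swap
    · simp
    rw [← mul_sub, hq, Nat.cast_pow]
    have hi' : i ≤ p ^ L := by rw [hq] at hi; exact Nat.lt_succ_iff.1 (Finset.mem_range.1 hi)
    rcases Nat.eq_zero_or_pos i with rfl | hipos
    · simpa using dvd_trans (pow_dvd_pow _ L.le_succ) (dvd_sub_pow_of_dvd_sub hu L)
    · obtain ⟨v, i', hi'p, hvi⟩ := Nat.exists_eq_pow_mul_and_not_dvd hipos.ne' p hp.ne_one
      have hvL : v ≤ L := (Nat.pow_le_pow_iff_right hp.one_lt).1
        (le_trans (Nat.le_of_dvd hipos ⟨i', hvi⟩) hi')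
      have hchoose : p ^ (L - v) ∣ (p ^ L).choose i := by
        obtain ⟨i₁, rfl⟩ := Nat.exists_eq_succ_of_ne_zero hipos.ne'
        have h := Nat.add_one_mul_choose_eq (p ^ L - 1) i₁
        rw [Nat.sub_add_cancel (Nat.one_le_pow _ _ hp.pos)] at h
        have h2 : p ^ (L - v) * p ^ v ∣ (p ^ L).choose (i₁ + 1) * i' * p ^ v := by
          rw [← pow_add, Nat.sub_add_cancel hvL, mul_assoc, mul_comm i' (p ^ v), ← hvi, ← h]
          exact dvd_mul_right _ _
        exact ((Nat.Coprime.pow_left _ ((hp.coprime_iff_not_dvd).2 hi'p))).dvd_of_dvd_mul_right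
          (Nat.dvd_of_mul_dvd_mul_right (pow_pos hp.pos v) h2)
      obtain ⟨r, hr⟩ : p ^ v ∣ p ^ L - i := Nat.dvd_sub (pow_dvd_pow _ hvL) ⟨i', hvi⟩
      obtain ⟨j, hj⟩ : p ^ v ∣ i / 2 := by
        obtain ⟨k, hk⟩ := hev
        have h2 : p ^ v ∣ 2 * k := ⟨i', by rw [← hvi, hk, two_mul]⟩
        rw [hk, show (k + k) / 2 = k by omega]
        exact (Nat.Coprime.pow_left v (hodd.coprime_two_right)).dvd_of_dvd_mul_left h2
      have hbase : (p : MonoidAlgebra ℤ C) ∣ S.A y ^ r * (S.B y * star' (S.B y)) ^ j - u₀ ^ r * W₀ ^ j := by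
        have e : S.A y ^ r * (S.B y * star' (S.B y)) ^ j - u₀ ^ r * W₀ ^ j =
            (S.A y ^ r - u₀ ^ r) * (S.B y * star' (S.B y)) ^ j + u₀ ^ r * ((S.B y * star' (S.B y)) ^ j - W₀ ^ j) := by ring
        rw [e]
        exact dvd_add (dvd_mul_of_dvd_left (dvd_trans hu (sub_dvd_pow_sub_pow _ _ _)) _)
          (dvd_mul_of_dvd_right (dvd_trans hW (sub_dvd_pow_sub_pow _ _ _)) _)
      have hterm := dvd_sub_pow_of_dvd_sub hbase v
      have eq : ∀ z w : MonoidAlgebra ℤ C, (z ^ r * w ^ j) ^ p ^ v = z ^ (p ^ L - i) * w ^ (i / 2) := fun z w => by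
        rw [hr, hj, mul_pow, ← pow_mul, ← pow_mul, mul_comm r, mul_comm j]
      rw [eq, eq] at hterm
      have := mul_dvd_mul ((Nat.cast_dvd_cast hchoose : ((p ^ (L - v) : ℕ) : MonoidAlgebra ℤ C) ∣ _)) hterm
      refine dvd_trans ?_ this
      rw [Nat.cast_pow, ← pow_add]
      exact pow_dvd_pow _ (by omega)
  have := (natCast_dvd_iff.1 hdiv) c
  rw [coeff_sub, Finsupp.sub_apply, hT0 c hc, sub_zero] at this
  exact_mod_cast this

/-- Elements with first component supported away from the prime form a subring. -/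
theorem pure_mul {p m' a : ℕ} (hp : p.Prime) (hodd : Odd p) (hcard : Nat.card C = p ^ a * m') (hm' : m'.Coprime p)
    [Nontrivial C] (x y : S.M) (hx : S.A x ∈ sub0 m') (hy : S.A y ∈ sub0 m') : S.A (x * y) ∈ sub0 m' := by
  classical
  let V : ℕ → S.M → Prop := fun K z => ∀ c : C, c ^ m' ≠ 1 → ((p : ℤ) ^ K) ∣ (S.A z).coeff c
  have key : ∀ K x y, V K x → V K y → V K (x * y) := by
    intro K
    induction K with
    | zero => intro x y _ _ c _; simp
    | succ K ih =>
      obtain ⟨L, hLK, hQ⟩ : ∃ L, K + 1 ≤ L ∧ p ^ (a + L) ≡ 1 [MOD m'] := by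
        have hm0 : m' ≠ 0 := fun h => by rw [h, mul_zero] at hcard; exact Nat.card_pos.ne' hcard
        have ht : 0 < m'.totient := Nat.totient_pos.2 (Nat.pos_of_ne_zero hm0)
        have hle : a + (K + 1) ≤ m'.totient * (a + (K + 1)) := Nat.le_mul_of_pos_left _ ht
        refine ⟨m'.totient * (a + (K + 1)) - a, by omega, ?_⟩
        rw [show a + (m'.totient * (a + (K + 1)) - a) = m'.totient * (a + (K + 1)) by omega, pow_mul]
        simpa using (Nat.ModEq.pow_totient hm'.symm).pow (a + (K + 1))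
      have hVQ : ∀ z, V (K + 1) (z ^ p ^ (a + L)) := fun z c hc =>
        dvd_trans (pow_dvd_pow _ hLK) (S.singular_pow hp hodd hcard z L c hc)
      have hdec : ∀ z, V (K + 1) z → ∃ z₁, V K z₁ ∧ z = z ^ p ^ (a + L) + (p : S.M) * z₁ := by
        intro z hz
        let z₀ : MonoidAlgebra ℤ C := ∑ c ∈ Finset.univ.filter (fun c : C => c ^ m' = 1), single c ((S.A z).coeff c)
        have hz₀ : (p : MonoidAlgebra ℤ C) ∣ S.A z - z₀ := by
          rw [natCast_dvd_iff]
          intro c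
          simp only [z₀, coeff_sub, Finsupp.sub_apply, coeff_sum, Finset.sum_apply', coeff_single, Finsupp.single_apply,
            Finset.sum_ite_eq', Finset.mem_filter, Finset.mem_univ, true_and]
          split_ifs with h
          · simp
          · rw [sub_zero]; exact dvd_trans (dvd_pow_self _ K.succ_ne_zero) (hz c h)
        have hfix : fr (p ^ (a + L)) z₀ = z₀ := by
          rw [map_sum]
          refine Finset.sum_congr rfl fun c hc => ?_
          rw [fr_single, pow_eq_pow_mod _ (Finset.mem_filter.1 hc).2, hQ, ← pow_eq_pow_mod _ (Finset.mem_filter.1 hc).2, pow_one]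
        have h1 := S.A_pow_prime_pow hp hodd z (a + L)
        have h2 := pow_prime_pow_dvd hp (S.A z) (a + L)
        have h3 : (p : MonoidAlgebra ℤ C) ∣ fr (p ^ (a + L)) (S.A z) - z₀ := by
          obtain ⟨r, hr⟩ := hz₀
          refine ⟨fr (p ^ (a + L)) r, ?_⟩
          rw [← hfix, ← map_sub, hr, map_mul, map_natCast]
        have h4 : (p : MonoidAlgebra ℤ C) ∣ S.A (z - z ^ p ^ (a + L)) := by
          rw [A_sub]
          have e : S.A z - S.A (z ^ p ^ (a + L)) = (S.A z - z₀) - (S.A (z ^ p ^ (a + L)) - S.A z ^ p ^ (a + L))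
              - (S.A z ^ p ^ (a + L) - fr (p ^ (a + L)) (S.A z)) - (fr (p ^ (a + L)) (S.A z) - z₀) := by ring
          rw [e]
          exact dvd_sub (dvd_sub (dvd_sub hz₀ h1) h2) h3
        obtain ⟨z₁, hz₁⟩ := S.dvd_of_A h4
        refine ⟨z₁, fun c hc => ?_, by rw [← hz₁]; ring⟩
        have h5 := congrArg (fun w => (S.A w).coeff c) hz₁
        simp only [A_sub, A_natCast_mul, coeff_sub, Finsupp.sub_apply, coeff_natCast_mul] at h5
        have h6 : (p : ℤ) ^ (K + 1) ∣ (p : ℤ) * (S.A z₁).coeff c := h5 ▸ dvd_sub (hz c hc) (hVQ z c hc)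
        rw [pow_succ'] at h6
        exact (mul_dvd_mul_iff_left (by exact_mod_cast hp.ne_zero)).1 h6
      intro x y hx hy c hc
      obtain ⟨x₁, hx₁, hxe⟩ := hdec x hx
      obtain ⟨y₁, hy₁, hye⟩ := hdec y hy
      have hweak : ∀ z, V (K + 1) z → V K z := fun z hz c hc => dvd_trans (pow_dvd_pow _ K.le_succ) (hz c hc)
      have e : x * y = (x * y) ^ p ^ (a + L) + (p : S.M) * (x ^ p ^ (a + L) * y₁ + x₁ * y ^ p ^ (a + L) + (p : S.M) * (x₁ * y₁)) := by
        conv_lhs => rw [hxe, hye]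
        rw [mul_pow]
        ring
      rw [e, A_add, coeff_add, Finsupp.add_apply]
      refine dvd_add (hVQ _ c hc) ?_
      rw [A_natCast_mul, coeff_natCast_mul, pow_succ']
      refine mul_dvd_mul_left _ ?_
      rw [A_add, A_add, A_natCast_mul, coeff_add, coeff_add, Finsupp.add_apply, Finsupp.add_apply, coeff_natCast_mul]
      exact dvd_add (dvd_add (ih _ _ (hweak _ (hVQ x)) hy₁ c hc) (ih _ _ hx₁ (hweak _ (hVQ y)) c hc))
        (dvd_mul_of_dvd_right (ih _ _ hx₁ hy₁ c hc) _)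
  intro c hc
  by_contra hne
  obtain ⟨K, hK⟩ : ∃ K : ℕ, ((S.A (x * y)).coeff c).natAbs < p ^ K := ⟨_, Nat.lt_pow_self hp.one_lt⟩
  have h := key K x y (fun d hd => by rw [hx d hd]; exact dvd_zero _) (fun d hd => by rw [hy d hd]; exact dvd_zero _) c hc
  have h2 := Int.natAbs_dvd_natAbs.2 h
  rw [Int.natAbs_pow, Int.natAbs_natCast] at h2
  exact absurd (Nat.le_of_dvd (Int.natAbs_pos.2 hne) h2) (not_le.2 hK)

/-- There are no pure classes. -/
theorem pure_scalar {p m' a : ℕ} (hp : p.Prime) (hodd : Odd p) (hcard : Nat.card C = p ^ a * m') (hm' : m'.Coprime p)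
    (ha : a ≠ 0) [Nontrivial C] (x : S.M) (hx : S.A x ∈ sub0 m') : ∀ d, co x.1 d ≠ 0 → d = .inl 1 := by
  classical
  haveI := Fact.mk hp
  obtain ⟨e, he⟩ := exists_prime_orderOf_dvd_card' (G := C) p (hcard ▸ dvd_mul_of_dvd_left (dvd_pow_self _ ha) _)
  have hem : e ^ m' ≠ 1 := fun h => (hp.coprime_iff_not_dvd.1 hm'.symm) (he ▸ orderOf_dvd_of_pow_eq_one h)
  refine S.trapped (fun z => S.A z ∈ sub0 m') (Subring.one_mem _) (fun u v hu hv => S.pure_mul hp hodd hcard hm' u v hu hv)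
    (fun φ hφ u v hu hv c hc => ?_) ⟨.inl e, fun z hz => hz e hem⟩ x hx
  show co (S.pw φ u v).1 (.inl c) = 0
  rw [co_pw, co_inl, co_inl, show (u.1 0 0).coeff c = 0 from hu c hc, show (v.1 0 0).coeff c = 0 from hv c hc, hφ]

end SRing

end Cfsg.Agent.PermGp.DihedralRing
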