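import Mathlib

/-!
Integral group rings of finite abelian groups, and the matrices over them which describe symmetric
elements of the group ring of the generalised dihedral group.
-/

set_option autoImplicit false
set_option linter.all false

namespace Cfsg.Agent.PermGp.DihedralRing

open MonoidAlgebra

variable {C : Type*} [CommGroup C]

/-- The inversion of the group ring. -/
noncomputable def star' : MonoidAlgebra ℤ C →+* MonoidAlgebra ℤ C :=
  mapDomainRingHom ℤ (MonoidHom.mk' (fun c : C => c⁻¹) fun a b => mul_inv a b)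

/-- The power map of the group ring. -/
noncomputable def fr (k : ℕ) : MonoidAlgebra ℤ C →+* MonoidAlgebra ℤ C :=
  mapDomainRingHom ℤ (MonoidHom.mk' (fun c : C => c ^ k) fun a b => mul_pow a b k)

/-- The augmentation. -/
noncomputable def aug : MonoidAlgebra ℤ C →+* ℤ :=
  (MonoidAlgebra.lift ℤ ℤ C (1 : C →* ℤ)).toRingHom

@[simp] theorem star'_single (c : C) (r : ℤ) : star' (single c r) = single c⁻¹ r := by
  simp [star', mapDomain_single]

@[simp] theorem fr_single (k : ℕ) (c : C) (r : ℤ) : fr k (single c r) = single (c ^ k) r := by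
  simp [fr, mapDomain_single]

@[simp] theorem aug_single (c : C) (r : ℤ) : aug (single c r) = r := by
  simp [aug]

theorem eq_sum_single [Fintype C] (x : MonoidAlgebra ℤ C) : x = ∑ c, single c (x.coeff c) := by
  classical
  ext c
  simp [coeff_sum, Finsupp.single_apply]

theorem coeff_star' [Fintype C] (x : MonoidAlgebra ℤ C) (c : C) : (star' x).coeff c = x.coeff c⁻¹ := by
  classical
  conv_lhs => rw [eq_sum_single x, map_sum]
  simp [coeff_sum, Finsupp.single_apply, inv_eq_iff_eq_inv]

theorem star'_star' [Fintype C] (x : MonoidAlgebra ℤ C) : star' (star' x) = x := by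
  ext c
  rw [coeff_star', coeff_star', inv_inv]

theorem coeff_fr [Fintype C] [DecidableEq C] (k : ℕ) (x : MonoidAlgebra ℤ C) (c : C) :
    (fr k x).coeff c = ∑ d, if d ^ k = c then x.coeff d else 0 := by
  conv_lhs => rw [eq_sum_single x, map_sum]
  simp [coeff_sum, Finsupp.single_apply]

theorem coeff_fr_bij [Fintype C] {k : ℕ} (hk : k.Coprime (Nat.card C)) (x : MonoidAlgebra ℤ C) (c : C) :
    (fr k x).coeff (c ^ k) = x.coeff c := by
  classical
  rw [coeff_fr, Finset.sum_eq_single c]
  · simp
  · intro d _ hd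
    exact if_neg fun h => hd ((powCoprime hk.symm).injective h)
  · simp

theorem coeff_mul' [Fintype C] (x y : MonoidAlgebra ℤ C) (c : C) :
    (x * y).coeff c = ∑ d, x.coeff d * y.coeff (d⁻¹ * c) := by
  classical
  rw [coeff_mul, Finsupp.sum_fintype _ _ (fun _ => by simp)]
  refine Finset.sum_congr rfl fun d _ => ?_
  rw [Finsupp.sum_fintype _ _ (fun _ => by simp), Finset.sum_eq_single (d⁻¹ * c)]
  · simp
  · intro e _ he
    rw [if_neg fun h => he (by rw [← h, inv_mul_cancel_left])]
  · simp

theorem coeff_single_mul' [Fintype C] (e : C) (r : ℤ) (x : MonoidAlgebra ℤ C) (c : C) :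
    (single e r * x).coeff c = r * x.coeff (e⁻¹ * c) := by
  classical
  rw [coeff_mul', Finset.sum_eq_single e]
  · simp
  · intro d _ hd
    simp [Finsupp.single_apply, Ne.symm hd]
  · simp

theorem aug_eq [Fintype C] (x : MonoidAlgebra ℤ C) : aug x = ∑ c, x.coeff c := by
  conv_lhs => rw [eq_sum_single x, map_sum]
  simp

theorem aug_star' [Fintype C] (x : MonoidAlgebra ℤ C) : aug (star' x) = aug x := by
  rw [aug_eq, aug_eq]
  exact Fintype.sum_equiv (Equiv.inv C) _ _ fun c => by rw [coeff_star']; rfl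

theorem natCast_dvd_iff [Fintype C] {n : ℕ} {x : MonoidAlgebra ℤ C} :
    (n : MonoidAlgebra ℤ C) ∣ x ↔ ∀ c, (n : ℤ) ∣ x.coeff c := by
  have hn : (n : MonoidAlgebra ℤ C) = single 1 (n : ℤ) := by
    rw [MonoidAlgebra.natCast_def]
  constructor
  · rintro ⟨y, rfl⟩ c
    rw [hn, coeff_single_mul']
    exact dvd_mul_right _ _
  · intro h
    choose q hq using h
    refine ⟨∑ c, single c (q c), ?_⟩
    conv_lhs => rw [eq_sum_single x]
    rw [Finset.mul_sum]
    refine Finset.sum_congr rfl fun c _ => ?_
    rw [hn, single_mul_single, one_mul, hq]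

theorem pow_prime_dvd [Fintype C] {p : ℕ} (hp : p.Prime) (x : MonoidAlgebra ℤ C) :
    (p : MonoidAlgebra ℤ C) ∣ x ^ p - fr p x := by
  haveI := Fact.mk hp
  rw [natCast_dvd_iff]
  intro c
  rw [← ZMod.intCast_zmod_eq_zero_iff_dvd]
  let π : MonoidAlgebra ℤ C →+* MonoidAlgebra (ZMod p) C := mapRingHom C (Int.castRingHom (ZMod p))
  haveI : CharP (MonoidAlgebra (ZMod p) C) p :=
    charP_of_injective_ringHom (f := algebraMap (ZMod p) (MonoidAlgebra (ZMod p) C)) (RingHom.injective _) p
  have h : π (x ^ p - fr p x) = 0 := by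
    rw [map_sub, map_pow, sub_eq_zero]
    conv_lhs => rw [eq_sum_single x, map_sum, sum_pow_char]
    conv_rhs => rw [eq_sum_single x, map_sum, map_sum]
    refine Finset.sum_congr rfl fun d _ => ?_
    rw [fr_single, mapRingHom_single, mapRingHom_single, single_pow, ZMod.pow_card]
  have h2 := congrArg (fun z => z.coeff c) h
  simp only [π, coeff_mapRingHom, coeff_zero, Finsupp.zero_apply, eq_intCast] at h2
  exact h2

/-- The two by two matrix of a symmetric element. -/
def Sym (x : Matrix (Fin 2) (Fin 2) (MonoidAlgebra ℤ C)) : Prop :=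
  x 1 0 = star' (x 0 1) ∧ x 1 1 = x 0 0 ∧ star' (x 0 0) = x 0 0

end Cfsg.Agent.PermGp.DihedralRing
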