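import Cfsg.Agent.Lib.PermGp.DihedralRing.Stable

/-!
A rational symmetric Schur ring over a dihedral group with a non-constant element yields an element
whose square is a combination of the identity and the all-one element.
-/

set_option autoImplicit false
set_option linter.all false

namespace Cfsg.Agent.PermGp.DihedralRing

open MonoidAlgebra

variable {C : Type*} [CommGroup C] [Fintype C]

theorem coeff_intCast_mul (k : ℤ) (x : MonoidAlgebra ℤ C) (c : C) :
    ((k : MonoidAlgebra ℤ C) * x).coeff c = k * x.coeff c := by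
  rw [← zsmul_eq_mul, coeff_smul]
  simp

theorem coeff_E_mul (ε : C) (x : MonoidAlgebra ℤ C) (c : C) :
    ((1 - single ε 1) * x).coeff c = x.coeff c - x.coeff (ε⁻¹ * c) := by
  rw [sub_mul, one_mul, coeff_sub, Finsupp.sub_apply, coeff_single_mul', one_mul]

theorem eq_zero_of_mul_star' {x : MonoidAlgebra ℤ C} (h : x * star' x = 0) : x = 0 := by
  have h1 : (x * star' x).coeff 1 = 0 := by rw [h]; simp
  rw [coeff_mul'] at h1
  simp only [coeff_star', mul_one, inv_inv] at h1
  ext c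
  have := (Finset.sum_eq_zero_iff_of_nonneg fun d _ => mul_self_nonneg _).1 h1 c (Finset.mem_univ c)
  simpa using this

namespace SRing

variable (S : SRing C)

/-- The element whose first component generates a rational Schur ring of rank three. -/
def Design (ε : C) : Prop :=
  ∃ (x : S.M) (κ μ : ℤ), (∀ d, co x.1 d = 0 ∨ co x.1 d = 1) ∧ (S.A x).coeff 1 = 0 ∧ (S.A x).coeff ε = 0 ∧
    (∃ c, (S.A x).coeff c = 1) ∧ (1 - single ε 1) * S.B x ≠ 0 ∧
    x * x = (κ : S.M) + (μ : S.M) * S.J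

theorem A_intCast (k : ℤ) : S.A (k : S.M) = k := by
  cases k with
  | ofNat n => simp [A_natCast]
  | negSucc n =>
    rw [Int.cast_negSucc, Int.cast_negSucc]
    show -(S.A ((n + 1 : ℕ) : S.M)) = _
    rw [A_natCast]

theorem B_intCast (k : ℤ) : S.B (k : S.M) = 0 := by
  cases k with
  | ofNat n => simp [B_natCast]
  | negSucc n =>
    rw [Int.cast_negSucc]
    show -(S.B ((n + 1 : ℕ) : S.M)) = _
    rw [B_natCast, neg_zero]

theorem co_intCast_mul (k : ℤ) (x : S.M) (d : C ⊕ C) : co ((k : S.M) * x).1 d = k * co x.1 d := by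
  rcases d with c | c
  · show (S.A ((k : S.M) * x)).coeff c = _
    rw [A_mul, A_intCast, B_intCast, zero_mul, add_zero, coeff_intCast_mul]; rfl
  · show (S.B ((k : S.M) * x)).coeff c = _
    rw [B_mul, A_intCast, B_intCast, zero_mul, add_zero, coeff_intCast_mul]; rfl

theorem B_J_stable (ε : C) : (1 - single ε 1) * S.B S.J = 0 := by
  ext c
  rw [coeff_E_mul]
  show co S.J.1 (.inr c) - co S.J.1 (.inr (ε⁻¹ * c)) = _
  rw [co_J, co_J]
  simp

theorem design_or_constant [Nontrivial C] {p : ℕ} (hp : p.Prime) {ε : C} (hε : orderOf ε = p) (hst : S.Stable p)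
    (hP : ∀ (x : S.M) (e : C), e ^ p = 1 → e ≠ 1 → (S.A x).coeff e = (S.A x).coeff ε) :
    S.Design ε ∨ ∀ (x : S.M) (c d : C), c ≠ 1 → d ≠ 1 → (S.A x).coeff c = (S.A x).coeff d := by
  classical
  have hεp : ε ^ p = 1 := hε ▸ pow_orderOf_eq_one ε
  have hε1 : ε ≠ 1 := fun h => hp.ne_one (by rw [← hε, h, orderOf_one])
  let E : MonoidAlgebra ℤ C := 1 - single ε 1
  let γ : S.M → ℤ := fun z => (S.A z).coeff 1 - (S.A z).coeff ε
  have hEA : ∀ z, E * S.A z = (γ z : MonoidAlgebra ℤ C) * E := by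
    intro z
    ext c
    rw [coeff_E_mul, coeff_intCast_mul, coeff_sub, Finsupp.sub_apply, MonoidAlgebra.one_def, coeff_single, coeff_single,
      Finsupp.single_apply, Finsupp.single_apply]
    by_cases hc : c ^ p = 1
    · by_cases h1 : c = 1
      · subst h1
        rw [if_pos rfl, if_neg hε1, mul_one, S.A_inv]
        simp [γ]
      · by_cases h2 : c = ε
        · subst h2
          rw [if_neg (Ne.symm h1), if_pos rfl, inv_mul_cancel]
          simp [γ]
        · rw [if_neg (Ne.symm h1), if_neg (Ne.symm h2), hP z c hc h1,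
            hP z (ε⁻¹ * c) (by rw [mul_pow, inv_pow, hεp, hc, inv_one, one_mul]) (fun h => h2 (inv_mul_eq_one.1 h).symm)]
          simp
    · rw [if_neg fun h => hc (by rw [← h, one_pow]), if_neg fun h => hc (by rw [← h, hεp]), mul_comm ε⁻¹,
        hst z c ε⁻¹ (by rw [inv_pow, hεp, inv_one]) hc]
      simp
  obtain ⟨N, hN⟩ : ∃ N, N = E * star' E := ⟨_, rfl⟩
  have hE0 : E ≠ 0 := fun h => by
    have h1 : E.coeff 1 = 0 := by rw [h]; simp
    simp [E, hε1] at h1
  have hN0 : N * N ≠ 0 := by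
    intro h
    have hsN : star' N = N := by rw [hN, map_mul, star'_star', mul_comm]
    have : N = 0 := eq_zero_of_mul_star' (by rw [hsN, h])
    exact hE0 (eq_zero_of_mul_star' (hN ▸ this))
  let Y : S.M → MonoidAlgebra ℤ C := fun z => E * S.B z
  let cc : S.M → S.M → ℤ := fun z w => γ (z * w) - γ z * γ w
  have hYY : ∀ z w, Y z * star' (Y w) = (cc z w : MonoidAlgebra ℤ C) * N := by
    intro z w
    have h1 : E * S.A (z * w) = (γ (z * w) : MonoidAlgebra ℤ C) * E := hEA _
    rw [A_mul, mul_add, ← mul_assoc, hEA z, mul_assoc, hEA w] at h1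
    have h2 : E * (S.B z * star' (S.B w)) = (cc z w : MonoidAlgebra ℤ C) * E := by
      simp only [cc, Int.cast_sub, Int.cast_mul]
      linear_combination h1
    rw [hN, map_mul]
    linear_combination (star' E) * h2
  have hsymm : ∀ z w, cc z w = cc w z := fun z w => by simp only [cc, mul_comm z w, mul_comm (γ z)]
  have hdet : ∀ z w, cc z w * cc z w = cc z z * cc w w := by
    intro z w
    by_contra hne
    apply hN0
    have e : ((cc z w * cc z w - cc z z * cc w w : ℤ) : MonoidAlgebra ℤ C) * (N * N) = 0 := by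
      have h1 := hYY z w
      have h2 := hYY w z
      rw [hsymm w z] at h2
      rw [Int.cast_sub, Int.cast_mul, Int.cast_mul]
      linear_combination (-(star' (Y z) * Y w)) * h1 + (-((cc z w : MonoidAlgebra ℤ C) * N)) * h2 +
        (star' (Y w) * Y w) * hYY z z + ((cc z z : MonoidAlgebra ℤ C) * N) * hYY w w
    ext c
    have := congrArg (fun u => u.coeff c) e
    simp only [coeff_intCast_mul, coeff_zero, Finsupp.zero_apply, mul_eq_zero, sub_eq_zero] at this
    simpa [hne] using this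
  have hprop : ∀ z w, (cc w w : MonoidAlgebra ℤ C) * Y z = (cc z w : MonoidAlgebra ℤ C) * Y w := by
    intro z w
    refine sub_eq_zero.1 (eq_zero_of_mul_star' ?_)
    rw [map_sub, map_mul star' _ (Y z), map_mul star' _ (Y w), map_intCast, map_intCast]
    have h3 : (cc z w : MonoidAlgebra ℤ C) * cc z w = cc z z * cc w w := by rw [← Int.cast_mul, ← Int.cast_mul, hdet]
    have h4 := hYY w z
    rw [hsymm w z] at h4
    linear_combination ((cc w w : MonoidAlgebra ℤ C) * cc w w) * hYY z z - ((cc w w : MonoidAlgebra ℤ C) * cc z w) * hYY z w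
      - ((cc w w : MonoidAlgebra ℤ C) * cc z w) * h4 + ((cc z w : MonoidAlgebra ℤ C) * cc z w) * hYY w w
      - ((cc w w : MonoidAlgebra ℤ C) * N) * h3
  have hdiag : ∀ z, Y z ≠ 0 → cc z z ≠ 0 := fun z hz h => hz (eq_zero_of_mul_star' (by rw [hYY, h, Int.cast_zero, zero_mul]))
  -- indicators
  let Ind : S.M → Prop := fun z => (∀ d, co z.1 d = 0 ∨ co z.1 d = 1) ∧ (S.A z).coeff 1 = 0
  have hrange : ∀ z, Ind z → ∀ c, (Y z).coeff c = -1 ∨ (Y z).coeff c = 0 ∨ (Y z).coeff c = 1 := by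
    intro z hz c
    simp only [Y, E, coeff_E_mul]
    rcases hz.1 (.inr c) with a | a <;> rcases hz.1 (.inr (ε⁻¹ * c)) with b | b <;>
      simp only [co_inr] at a b <;> show ((S.B z).coeff c - (S.B z).coeff (ε⁻¹ * c) = -1 ∨ _) <;>
      simp only [B, a, b] <;> norm_num
  have hsupp : ∀ z w, Ind z → Ind w → Y z ≠ 0 → Y w ≠ 0 → ∀ c, (Y w).coeff c ≠ 0 → (Y z).coeff c ≠ 0 := by
    intro z w hz hw hYz hYw c hc hzc
    have h := congrArg (fun u => u.coeff c) (hprop z w)
    simp only [coeff_intCast_mul, hzc, mul_zero] at h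
    have h0 : cc z w = 0 := (mul_eq_zero.1 h.symm).resolve_right hc
    refine hYz ?_
    have h2 := hprop z w
    rw [h0, Int.cast_zero, zero_mul] at h2
    ext d
    have := congrArg (fun u => u.coeff d) h2
    simp only [coeff_intCast_mul, coeff_zero, Finsupp.zero_apply] at this
    exact (mul_eq_zero.1 this).resolve_left (hdiag w hYw)
  have hinvariant : ∀ z, γ z = 0 → Y z = 0 → ∀ d, co z.1 d = co z.1 (.inl 1) := by
    intro z hγ hY
    refine S.stab z.1 z.2 ε⁻¹ (by simpa using hε1) ?_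
    intro d
    rcases d with c | c
    · have h := congrArg (fun u => u.coeff c) (hEA z)
      simp only [E, coeff_E_mul, hγ, coeff_intCast_mul, zero_mul] at h
      simp only [Sum.map_inl, co_inl]
      exact (sub_eq_zero.1 h).symm
    · have h := congrArg (fun u => u.coeff c) hY
      simp only [Y, E, coeff_E_mul, coeff_zero, Finsupp.zero_apply] at h
      simp only [Sum.map_inr, co_inr]
      exact (sub_eq_zero.1 h).symm
  have hone : ∀ d, co (1 : S.M).1 d = if d = .inl 1 then 1 else 0 := fun d => S.co_one d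
  have hY0 : ∀ z, Ind z → (∃ d, co z.1 d = 1) → (∃ d, d ≠ .inl 1 ∧ co z.1 d = 0) → Y z ≠ 0 := by
    rintro z hz ⟨d₁, hd₁⟩ ⟨d₀, hd₀1, hd₀⟩ hY
    rcases hz.1 (.inl ε) with h | h
    · have hγ : γ z = 0 := by
        show (S.A z).coeff 1 - (S.A z).coeff ε = 0
        rw [hz.2, show (S.A z).coeff ε = 0 from h, sub_zero]
      have h2 := hinvariant z hγ hY d₁
      rw [hd₁, show co z.1 (.inl 1) = 0 from hz.2] at h2
      norm_num at h2
    · have hsum : ∀ d, co (z + 1 : S.M).1 d = co z.1 d + co (1 : S.M).1 d := fun d => by rcases d with c | c <;> rfl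
      have hγ : γ (z + 1) = 0 := by
        have a1 := hsum (.inl 1)
        have a2 := hsum (.inl ε)
        rw [hone] at a1 a2
        simp only [if_true, Sum.inl.injEq, hε1, if_false, co_inl] at a1 a2
        show (S.A (z + 1)).coeff 1 - (S.A (z + 1)).coeff ε = 0
        simp only [A, a1, a2]
        rw [show (z.1 0 0).coeff 1 = 0 from hz.2, show (z.1 0 0).coeff ε = 1 from h]
        norm_num
      have hY' : Y (z + 1) = 0 := by
        show E * S.B (z + 1) = 0
        rw [B_add, B_one, add_zero]; exact hY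
      have h2 := hinvariant (z + 1) hγ hY' d₀
      rw [hsum, hsum, hone, hone, if_neg hd₀1, if_pos rfl, hd₀, show co z.1 (.inl 1) = 0 from hz.2] at h2
      norm_num at h2
  have hthree : ∀ y z w, Ind y → Ind z → Ind w → (∀ d, d ≠ .inl 1 → co y.1 d + co z.1 d + co w.1 d = 1) →
      (∃ d, co y.1 d = 1) → (∃ d, co z.1 d = 1) → (∃ d, co w.1 d = 1) → False := by
    intro y z w hy hz hw hsum ey ez ew
    have ne1 : ∀ u, Ind u → ∀ d, co u.1 d = 1 → d ≠ .inl 1 := fun u hu d h he => by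
      rw [he] at h; exact zero_ne_one (hu.2.symm.trans h)
    have hpos : ∀ u, Ind u → ∀ d, 0 ≤ co u.1 d := fun u hu d => by rcases hu.1 d with h | h <;> rw [h]; norm_num
    obtain ⟨dy, hdy⟩ := ey
    obtain ⟨dz, hdz⟩ := ez
    have sy := hsum dy (ne1 y hy dy hdy)
    have sz := hsum dz (ne1 z hz dz hdz)
    have Yy := hY0 y hy ⟨dy, hdy⟩ ⟨dz, ne1 z hz dz hdz, by
      have := hpos w hw dz; have := hpos y hy dz; linarith⟩
    have Yz := hY0 z hz ⟨dz, hdz⟩ ⟨dy, ne1 y hy dy hdy, by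
      have := hpos w hw dy; have := hpos z hz dy; linarith⟩
    obtain ⟨dw, hdw⟩ := ew
    have Yw := hY0 w hw ⟨dw, hdw⟩ ⟨dy, ne1 y hy dy hdy, by
      have := hpos w hw dy; have := hpos z hz dy; linarith⟩
    have htot : Y y + Y z + Y w = 0 := by
      have e : S.B y + S.B z + S.B w = S.B S.J := by
        ext c
        show co y.1 (.inr c) + co z.1 (.inr c) + co w.1 (.inr c) = co S.J.1 (.inr c)
        rw [hsum _ (by simp), co_J]
      simp only [Y, ← mul_add, e]
      exact S.B_J_stable ε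
    obtain ⟨c, hc⟩ : ∃ c, (Y y).coeff c ≠ 0 := by
      by_contra h
      push Not at h
      exact Yy (by ext c; simpa using h c)
    have hcz := hsupp z y hz hy Yz Yy c hc
    have hcw := hsupp w y hw hy Yw Yy c hc
    have h := congrArg (fun u => u.coeff c) htot
    simp only [coeff_add, Finsupp.add_apply, coeff_zero, Finsupp.zero_apply] at h
    rcases hrange y hy c with a | a | a <;> rcases hrange z hz c with b | b | b <;>
      rcases hrange w hw c with e | e | e <;> omega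
  by_cases hcon : ∀ (x : S.M) (c : C), c ≠ 1 → (S.A x).coeff c = (S.A x).coeff ε
  · exact Or.inr fun x c d hc hd => (hcon x c hc).trans (hcon x d hd).symm
  push Not at hcon
  obtain ⟨x₀, c₀, hc₀, hne⟩ := hcon
  refine Or.inl ?_
  obtain ⟨x, hx⟩ : ∃ x, x = S.pw (fun u v => if v = 0 ∧ u = (S.A x₀).coeff c₀ then 1 else 0) x₀ 1 := ⟨_, rfl⟩
  have hxc : ∀ d, co x.1 d = if d ≠ .inl 1 ∧ co x₀.1 d = (S.A x₀).coeff c₀ then 1 else 0 := fun d => by
    rw [hx, co_pw, hone]
    refine if_congr ?_ rfl rfl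
    by_cases h : d = .inl 1 <;> simp [h]
  have hx01 : ∀ d, co x.1 d = 0 ∨ co x.1 d = 1 := fun d => by rw [hxc]; split_ifs <;> simp
  have hxI : Ind x := ⟨hx01, by show co x.1 (.inl 1) = 0; rw [hxc, if_neg (by simp)]⟩
  have hxc₀ : co x.1 (.inl c₀) = 1 := by rw [hxc, if_pos ⟨by simp [hc₀], rfl⟩]
  have hxε : co x.1 (.inl ε) = 0 := by
    rw [hxc, if_neg]; rintro ⟨-, h⟩; exact hne h.symm
  have hxY : Y x ≠ 0 := hY0 x hxI ⟨_, hxc₀⟩ ⟨.inl ε, by simp [hε1], hxε⟩
  obtain ⟨x', hx'⟩ : ∃ x', x' = S.J - 1 - x := ⟨_, rfl⟩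
  have hx'c : ∀ d, co x'.1 d = 1 - (if d = .inl 1 then 1 else 0) - co x.1 d := fun d => by
    rw [hx', ← hone, ← S.co_J d]
    rcases d with c | c <;> rfl
  have hx'I : Ind x' := by
    refine ⟨fun d => ?_, ?_⟩
    · rw [hx'c]
      split_ifs with h
      · rw [h, show co x.1 (.inl 1) = 0 from hxI.2]; norm_num
      · rcases hx01 d with a | a <;> rw [a] <;> norm_num
    · show co x'.1 (.inl 1) = 0
      rw [hx'c, if_pos rfl, show co x.1 (.inl 1) = 0 from hxI.2]; norm_num
  have hx'ε : co x'.1 (.inl ε) = 1 := by rw [hx'c, if_neg (by simp [hε1]), hxε]; norm_num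
  -- no element separates either part
  have hnosplit : ∀ (u y y' : S.M), Ind y → Ind y' → (∀ d, d ≠ .inl 1 → co y.1 d + co y'.1 d = 1) → (∃ d, co y'.1 d = 1) →
      ∀ d d', co y.1 d = 1 → co y.1 d' = 1 → co u.1 d = co u.1 d' := by
    intro u y y' hy hy' hsum ey' d d' hd hd'
    by_contra hne
    obtain ⟨z, hz⟩ : ∃ z, z = S.pw (fun a b => if a = 1 ∧ b = co u.1 d then 1 else 0) y u := ⟨_, rfl⟩
    obtain ⟨w, hw⟩ : ∃ w, w = S.pw (fun a b => if a = 1 ∧ b ≠ co u.1 d then 1 else 0) y u := ⟨_, rfl⟩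
    have hzc : ∀ e, co z.1 e = if co y.1 e = 1 ∧ co u.1 e = co u.1 d then 1 else 0 := fun e => by rw [hz, co_pw]
    have hwc : ∀ e, co w.1 e = if co y.1 e = 1 ∧ co u.1 e ≠ co u.1 d then 1 else 0 := fun e => by rw [hw, co_pw]
    have hy1 : co y.1 (.inl 1) ≠ 1 := by rw [show co y.1 (.inl 1) = 0 from hy.2]; norm_num
    refine hthree z w y' ⟨fun e => by rw [hzc]; split_ifs <;> simp, ?_⟩ ⟨fun e => by rw [hwc]; split_ifs <;> simp, ?_⟩ hy'
      ?_ ⟨d, by rw [hzc, if_pos ⟨hd, rfl⟩]⟩ ⟨d', by rw [hwc, if_pos ⟨hd', Ne.symm hne⟩]⟩ ey'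
    · show co z.1 (.inl 1) = 0; rw [hzc, if_neg (fun h => hy1 h.1)]
    · show co w.1 (.inl 1) = 0; rw [hwc, if_neg (fun h => hy1 h.1)]
    · intro e he
      rw [← hsum e he, hzc, hwc]
      rcases hy.1 e with a | a <;> by_cases b : co u.1 e = co u.1 d <;> simp [a, b]
  have hsum : ∀ d, d ≠ .inl 1 → co x.1 d + co x'.1 d = 1 := fun d hd => by rw [hx'c, if_neg hd]; ring
  obtain ⟨κ₀, hκ₀⟩ : ∃ k, k = co (x * x).1 (.inl 1) := ⟨_, rfl⟩
  obtain ⟨l₁, hl₁⟩ : ∃ k, k = co (x * x).1 (.inl c₀) := ⟨_, rfl⟩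
  obtain ⟨l₀, hl₀⟩ : ∃ k, k = co (x * x).1 (.inl ε) := ⟨_, rfl⟩
  have hsq : x * x = (κ₀ : S.M) + (l₁ : S.M) * x + (l₀ : S.M) * x' := by
    refine S.ext_co fun d => ?_
    have e : co ((κ₀ : S.M) + (l₁ : S.M) * x + (l₀ : S.M) * x').1 d =
        κ₀ * (if d = .inl 1 then 1 else 0) + l₁ * co x.1 d + l₀ * co x'.1 d := by
      rw [← hone, ← co_intCast_mul, ← co_intCast_mul, ← co_intCast_mul, mul_one]
      rcases d with c | c <;> rfl
    rw [e]
    by_cases hd : d = .inl 1
    · rw [if_pos hd, hd, show co x.1 (.inl 1) = 0 from hxI.2, show co x'.1 (.inl 1) = 0 from hx'I.2, hκ₀]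
      ring
    · rw [if_neg hd]
      rcases hx01 d with a | a
      · have a' : co x'.1 d = 1 := by have := hsum d hd; omega
        rw [a, a', hl₀, hnosplit (x * x) x' x hx'I hxI (fun e he => by rw [add_comm]; exact hsum e he) ⟨_, hxc₀⟩ d _ a' hx'ε]
        ring
      · have a' : co x'.1 d = 0 := by have := hsum d hd; omega
        rw [a, a', hl₁, hnosplit (x * x) x x' hxI hx'I hsum ⟨_, hx'ε⟩ d _ a hxc₀]
        ring
  have hγx : γ x = 0 := by
    show (S.A x).coeff 1 - (S.A x).coeff ε = 0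
    rw [hxI.2, show (S.A x).coeff ε = 0 from hxε, sub_zero]
  have heq : l₁ = l₀ := by
    have h0 : E * S.B (x * x) = 0 := by
      rw [B_mul, mul_comm (S.B x) (S.A x), mul_add, ← mul_assoc, hEA x, hγx]
      simp
    have h1 : E * S.B x' = -Y x := by
      rw [hx', B_sub, B_sub, B_one, sub_zero, mul_sub, show E * S.B S.J = 0 from S.B_J_stable ε, zero_sub]
    rw [hsq, B_add, B_add, B_intCast, B_mul, B_mul, A_intCast, A_intCast, B_intCast, B_intCast] at h0
    have h2 : ((l₁ - l₀ : ℤ) : MonoidAlgebra ℤ C) * Y x = 0 := by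
      rw [Int.cast_sub]
      linear_combination h0 - (l₀ : MonoidAlgebra ℤ C) * h1
    obtain ⟨c, hc⟩ : ∃ c, (Y x).coeff c ≠ 0 := by
      by_contra h
      push Not at h
      exact hxY (by ext c; simpa using h c)
    have h3 := congrArg (fun u => u.coeff c) h2
    simp only [coeff_intCast_mul, coeff_zero, Finsupp.zero_apply] at h3
    exact sub_eq_zero.1 ((mul_eq_zero.1 h3).resolve_right hc)
  refine ⟨x, κ₀ - l₀, l₀, hx01, hxI.2, hxε, ⟨c₀, hxc₀⟩, hxY, ?_⟩
  rw [hsq, heq, hx', Int.cast_sub]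
  ring

end SRing

end Cfsg.Agent.PermGp.DihedralRing
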