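import Cfsg.Agent.Lib.PermGp.DihedralRing.Pure

/-!
In a rational symmetric Schur ring over a dihedral group, first components are stable under the
elements of order a suitable prime.
-/

set_option autoImplicit false
set_option linter.all false

namespace Cfsg.Agent.PermGp.DihedralRing

open MonoidAlgebra

variable {C : Type*} [CommGroup C] [Fintype C]

namespace SRing

variable (S : SRing C)

/-- All first components are invariant under the multipliers. -/
def Rat : Prop := ∀ (x : S.M) (k : ℕ), k.Coprime (Nat.card C) → ∀ c, (S.A x).coeff (c ^ k) = (S.A x).coeff c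

/-- Translation by the elements of order `p` fixes first components away from the subgroup of order `p`. -/
def Stable (p : ℕ) : Prop :=
  ∀ (x : S.M) (c e : C), e ^ p = 1 → c ^ p ≠ 1 → (S.A x).coeff (c * e) = (S.A x).coeff c

variable {S} [IsCyclic C]

theorem Rat.orderOf_eq (hr : S.Rat) (x : S.M) {c d : C} (h : orderOf c = orderOf d) :
    (S.A x).coeff d = (S.A x).coeff c := by
  classical
  haveI : NeZero (Nat.card C) := ⟨Nat.card_pos.ne'⟩
  have hmem : d ∈ Subgroup.zpowers c := by
    have hsub : ∀ z : C, z ∈ Subgroup.zpowers c → z ^ orderOf c = 1 := fun z hz => by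
      obtain ⟨k, rfl⟩ := Subgroup.mem_zpowers_iff.1 hz
      rw [← zpow_natCast, ← zpow_mul, mul_comm, zpow_mul, zpow_natCast, pow_orderOf_eq_one, one_zpow]
    have hle : (Finset.univ.filter fun z : C => z ∈ Subgroup.zpowers c).card = orderOf c := by
      rw [← Fintype.card_subtype, ← Nat.card_eq_fintype_card]
      exact Nat.card_zpowers c
    have heq := Finset.eq_of_subset_of_card_le (s := Finset.univ.filter fun z : C => z ∈ Subgroup.zpowers c)
      (t := Finset.univ.filter fun z : C => z ^ orderOf c = 1)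
      (fun z hz => Finset.mem_filter.2 ⟨Finset.mem_univ _, hsub z (Finset.mem_filter.1 hz).2⟩)
      (by rw [hle]; exact IsCyclic.card_pow_eq_one_le (orderOf_pos c))
    have hd : d ∈ Finset.univ.filter fun z : C => z ^ orderOf c = 1 :=
      Finset.mem_filter.2 ⟨Finset.mem_univ _, h ▸ pow_orderOf_eq_one d⟩
    rw [← heq] at hd
    exact (Finset.mem_filter.1 hd).2
  obtain ⟨i, rfl⟩ := mem_powers_iff_mem_zpowers.2 hmem
  have hcop : i.Coprime (orderOf c) := by
    rw [orderOf_pow] at h
    have hpos := orderOf_pos c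
    rcases Nat.eq_or_lt_of_le (Nat.le_div_iff_mul_le (Nat.gcd_pos_of_pos_left i hpos) |>.1 h.le) with e | e
    · exact Nat.coprime_comm.1 (Nat.eq_of_mul_eq_mul_left hpos (e.trans (mul_one _).symm))
    · have := Nat.le_mul_of_pos_right (orderOf c) (Nat.gcd_pos_of_pos_left i hpos)
      nlinarith [Nat.div_mul_cancel (Nat.gcd_dvd_left (orderOf c) i)]
  obtain ⟨u, hu⟩ := ZMod.unitsMap_surjective (orderOf_dvd_natCard c) (ZMod.unitOfCoprime i hcop)
  have hmod : (u : ZMod (Nat.card C)).val ≡ i [MOD orderOf c] := by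
    rw [← ZMod.natCast_eq_natCast_iff]
    have h2 := congrArg (fun z : (ZMod (orderOf c))ˣ => (z : ZMod (orderOf c))) hu
    rw [ZMod.unitsMap_def] at h2
    simp only [Units.coe_map, MonoidHom.coe_coe, ZMod.coe_unitOfCoprime] at h2
    rw [← h2, ← map_natCast (ZMod.castHom (orderOf_dvd_natCard c) (ZMod (orderOf c))), ZMod.natCast_zmod_val]
  show (S.A x).coeff (c ^ i) = _
  rw [← pow_eq_pow_iff_modEq.2 hmod]
  exact hr x _ (ZMod.val_coe_unit_coprime u) c

theorem stable_of_prime {p : ℕ} (hp : p.Prime) (hpn : p ∣ Nat.card C) (hr : S.Rat)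
    (hodd : Odd p ∨ ∃ a, Nat.card C = p ^ a) [Nontrivial C] : S.Stable p := by
  classical
  haveI := Fact.mk hp
  obtain ⟨m', a, hm', hcard⟩ : ∃ m' a : ℕ, m'.Coprime p ∧ Nat.card C = p ^ a * m' := by
    obtain ⟨a, m', h1, h2⟩ := Nat.exists_eq_pow_mul_and_not_dvd (Nat.card_pos (α := C)).ne' p hp.ne_one
    exact ⟨m', a, Nat.coprime_comm.1 (hp.coprime_iff_not_dvd.2 h1), h2⟩
  have ha : a ≠ 0 := fun h => by
    rw [h, pow_zero, one_mul] at hcard
    exact hp.coprime_iff_not_dvd.1 hm'.symm (hcard ▸ hpn)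
  have hm0 : 0 < m' := Nat.pos_of_ne_zero fun h => by rw [h, mul_zero] at hcard; exact Nat.card_pos.ne' hcard
  -- the order is determined by the p-th power
  have hord : ∀ w : C, p ∣ orderOf (w ^ p) → orderOf w = p * orderOf (w ^ p) := by
    intro w hw
    rw [orderOf_pow] at hw ⊢
    rcases (Nat.dvd_prime hp).1 (Nat.gcd_dvd_right (orderOf w) p) with h | h
    · rw [h, Nat.div_one] at hw
      have := Nat.dvd_gcd hw dvd_rfl
      rw [h] at this
      exact absurd (Nat.dvd_one.1 this) hp.ne_one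
    · rw [h, Nat.mul_div_cancel' (h ▸ Nat.gcd_dvd_left (orderOf w) p)]
  have hsame : ∀ (x : S.M) (w e : C), e ^ p = 1 → p ∣ orderOf (w ^ p) → (S.A x).coeff (w * e) = (S.A x).coeff w := by
    intro x w e he hw
    refine (hr.orderOf_eq x ?_)
    have : (w * e) ^ p = w ^ p := by rw [mul_pow, he, mul_one]
    rw [hord w hw, hord (w * e) (this ▸ hw), this]
  have hker : ∀ e : C, e ^ p = 1 → e ≠ 1 → orderOf e = p := fun e h1 h2 => orderOf_eq_prime h1 h2
  -- the fibre over an element of order prime to p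
  have hfib : ∀ (x : S.M) (z e : C), z ^ m' = 1 → z ≠ 1 → e ^ p = 1 → (S.A x).coeff (z * e) = (S.A x).coeff z := by
    intro x z e hz hz1 he
    by_cases he1 : e = 1
    · rw [he1, mul_one]
    rcases hodd with hodd | ⟨a', ha'⟩
    swap
    · refine absurd ?_ hz1
      have h1 : orderOf z ∣ p ^ a' := ha' ▸ orderOf_dvd_natCard z
      have h2 := orderOf_dvd_of_pow_eq_one hz
      exact orderOf_eq_one_iff.1 (Nat.dvd_one.1 ((Nat.Coprime.pow_right a' hm').gcd_eq_one ▸ Nat.dvd_gcd h2 h1))
    obtain ⟨y, hy⟩ : ∃ y, y = S.pw (fun u _ => if u = (S.A x).coeff z then 1 else 0) x x := ⟨_, rfl⟩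
    have hyA : ∀ c, (S.A y).coeff c = if (S.A x).coeff c = (S.A x).coeff z then 1 else 0 := fun c => by
      show co y.1 (.inl c) = _
      rw [hy, co_pw]; rfl
    obtain ⟨Q, L, hQL, hQ⟩ : ∃ Q L : ℕ, Q = p ^ (a + L) ∧ Q ≡ 1 [MOD m'] := by
      have ht : 0 < m'.totient := Nat.totient_pos.2 hm0
      refine ⟨_, m'.totient * a - a, rfl, ?_⟩
      rw [show a + (m'.totient * a - a) = m'.totient * a by
        have := Nat.le_mul_of_pos_left a ht; omega, pow_mul]
      simpa using (Nat.ModEq.pow_totient hm'.symm).pow a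
    have hzQ : z ^ Q = z := by rw [pow_eq_pow_mod _ hz, hQ, ← pow_eq_pow_mod _ hz, pow_one]
    have hsub : fr Q (S.A y) ∈ sub0 m' := by
      intro c hc
      rw [coeff_fr]
      refine Finset.sum_eq_zero fun d _ => if_neg fun hd => hc ?_
      rw [← hd, hQL, pow_add, pow_mul, ← pow_mul, ← pow_mul, mul_comm (p ^ L), ← mul_assoc, ← hcard, pow_mul,
        pow_card_eq_one', one_pow]
    have hcong : (p : MonoidAlgebra ℤ C) ∣ S.A (y ^ Q) - fr Q (S.A y) := by
      rw [hQL]
      simpa using dvd_add (S.A_pow_prime_pow hp hodd y (a + L)) (pow_prime_pow_dvd hp (S.A y) (a + L))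
    rw [natCast_dvd_iff] at hcong
    obtain ⟨w, hw⟩ : ∃ w, w = S.pw (fun u _ => u % (p : ℤ)) (y ^ Q) (y ^ Q) := ⟨_, rfl⟩
    have hwA : S.A w ∈ sub0 m' := fun c hc => by
      show co w.1 (.inl c) = 0
      rw [hw, co_pw]
      refine Int.emod_eq_zero_of_dvd ?_
      have := hcong c
      rw [coeff_sub, Finsupp.sub_apply, hsub c hc, sub_zero] at this
      exact this
    have hz0 : (p : ℤ) ∣ (fr Q (S.A y)).coeff z := by
      have h0 : co w.1 (.inl z) = 0 := by
        by_contra h
        exact hz1 (Sum.inl.inj (S.pure_scalar hp hodd hcard hm' ha w hwA _ h))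
      rw [hw, co_pw] at h0
      have h1 : (p : ℤ) ∣ (S.A (y ^ Q)).coeff z := Int.dvd_of_emod_eq_zero h0
      have h2 := hcong z
      rw [coeff_sub, Finsupp.sub_apply] at h2
      simpa using dvd_sub h1 h2
    rw [coeff_fr, ← Finset.sum_filter] at hz0
    -- split the fibre
    have hfibcard : ∀ d : C, (Finset.univ.filter fun d' : C => d' ^ p = d ^ p).card = p := by
      intro d
      refine le_antisymm ?_ ?_
      · refine le_trans (Finset.card_le_card_of_injOn (fun d' => d⁻¹ * d') (fun d' hd' => ?_)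
          (fun u _ v _ h => mul_left_cancel h)) (IsCyclic.card_pow_eq_one_le (α := C) hp.pos)
        simp only [Finset.coe_filter, Finset.mem_univ, true_and, Set.mem_setOf_eq] at hd' ⊢
        rw [mul_pow, hd', inv_pow, inv_mul_cancel]
      · refine le_trans (le_of_eq (Finset.card_range p).symm) (Finset.card_le_card_of_injOn (fun i => d * e ^ i)
          (fun i _ => ?_) (fun i hi j hj h => ?_))
        · simp only [Finset.coe_filter, Finset.mem_univ, true_and, Set.mem_setOf_eq]
          rw [mul_pow, ← pow_mul, mul_comm i, pow_mul, he, one_pow, mul_one]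
        · have := pow_inj_mod.1 (mul_left_cancel h)
          rwa [hker e he he1, Nat.mod_eq_of_lt (Finset.mem_range.1 hi), Nat.mod_eq_of_lt (Finset.mem_range.1 hj)] at this
    obtain ⟨T, hT⟩ : ∃ T, T = Finset.univ.filter fun d : C => d ^ Q = z := ⟨_, rfl⟩
    rw [← hT] at hz0
    have hclosed : ∀ d ∈ T, ∀ d' : C, d' ^ p = d ^ p → d' ∈ T := by
      intro d hd d' h
      rw [hT, Finset.mem_filter] at hd ⊢
      refine ⟨Finset.mem_univ _, ?_⟩
      obtain ⟨k, hk⟩ : p ∣ Q := hQL ▸ dvd_pow_self _ (by omega)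
      rw [← hd.2, hk, pow_mul, pow_mul, h]
    rw [← Finset.sum_fiberwise_of_maps_to (s := T) (t := T.image (· ^ p)) (g := (· ^ p))
      (fun d hd => Finset.mem_image_of_mem _ hd)] at hz0
    have hzT : z ^ p ∈ T.image (· ^ p) := Finset.mem_image_of_mem _ (hT ▸ Finset.mem_filter.2 ⟨Finset.mem_univ _, hzQ⟩)
    rw [← Finset.add_sum_erase _ _ hzT] at hz0
    have hfilt : ∀ d ∈ T, T.filter (fun d' => d' ^ p = d ^ p) = Finset.univ.filter fun d' : C => d' ^ p = d ^ p := by
      intro d hd
      ext d'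
      simp only [Finset.mem_filter, Finset.mem_univ, true_and, and_iff_right_iff_imp]
      exact hclosed d hd d'
    have hrest : (p : ℤ) ∣ ∑ t ∈ (T.image (· ^ p)).erase (z ^ p), ∑ d ∈ T with d ^ p = t, (S.A y).coeff d := by
      refine Finset.dvd_sum fun t ht => ?_
      obtain ⟨htne, htm⟩ := Finset.mem_erase.1 ht
      obtain ⟨d, hd, rfl⟩ := Finset.mem_image.1 htm
      have hdQ : d ^ Q = z := by rw [hT] at hd; exact (Finset.mem_filter.1 hd).2
      have hp' : p ∣ orderOf (d ^ p) := by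
        by_contra hnd
        refine htne ?_
        have h1 : orderOf (d ^ p) ∣ m' :=
          (Nat.Coprime.pow_right a (hp.coprime_iff_not_dvd.2 hnd).symm).dvd_of_dvd_mul_left
            (hcard ▸ orderOf_dvd_natCard (d ^ p))
        show d ^ p = z ^ p
        rw [← hdQ, pow_right_comm, pow_eq_pow_mod Q (orderOf_dvd_iff_pow_eq_one.1 h1), hQ,
          ← pow_eq_pow_mod 1 (orderOf_dvd_iff_pow_eq_one.1 h1), pow_one]
      rw [hfilt d hd, Finset.sum_congr rfl (fun d' hd' => ?_), Finset.sum_const, hfibcard d, nsmul_eq_mul]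
      · exact dvd_mul_right _ ((S.A y).coeff d)
      · have h : d' ^ p = d ^ p := (Finset.mem_filter.1 hd').2
        have := hsame y d (d⁻¹ * d') (by rw [mul_pow, h, inv_pow, inv_mul_cancel]) hp'
        rwa [mul_inv_cancel_left] at this
    rw [dvd_add_left hrest, hfilt z (hT ▸ Finset.mem_filter.2 ⟨Finset.mem_univ _, hzQ⟩),
      ← Finset.add_sum_erase _ _ (show z ∈ Finset.univ.filter (fun d : C => d ^ p = z ^ p) from
        Finset.mem_filter.2 ⟨Finset.mem_univ z, rfl⟩)] at hz0
    have hzord : Nat.Coprime (orderOf z) p := Nat.Coprime.coprime_dvd_left (orderOf_dvd_of_pow_eq_one hz) hm'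
    have hconst : ∀ d ∈ (Finset.univ.filter fun d : C => d ^ p = z ^ p).erase z,
        (S.A y).coeff d = (S.A y).coeff (z * e) := by
      intro d hd
      obtain ⟨hdz, hd⟩ := Finset.mem_erase.1 hd
      have hd' : (z⁻¹ * d) ^ p = 1 := by rw [mul_pow, (Finset.mem_filter.1 hd).2, inv_pow, inv_mul_cancel]
      refine hr.orderOf_eq y ?_
      have hne : z⁻¹ * d ≠ 1 := fun h => hdz (inv_mul_eq_one.1 h).symm
      conv_rhs => rw [← mul_inv_cancel_left z d]
      rw [(Commute.all z e).orderOf_mul_eq_mul_orderOf_of_coprime (by rwa [hker e he he1]),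
        (Commute.all z (z⁻¹ * d)).orderOf_mul_eq_mul_orderOf_of_coprime (by rwa [hker _ hd' hne]), hker e he he1,
        hker _ hd' hne]
    rw [Finset.sum_congr rfl hconst, Finset.sum_const, Finset.card_erase_of_mem (show z ∈ Finset.univ.filter
        (fun d : C => d ^ p = z ^ p) from Finset.mem_filter.2 ⟨Finset.mem_univ z, rfl⟩),
      hfibcard z, hyA z, if_pos rfl, nsmul_eq_mul, Nat.cast_sub hp.one_le, Nat.cast_one] at hz0
    have h01 : (p : ℤ) ∣ 1 - (S.A y).coeff (z * e) := by
      have h := dvd_sub hz0 (dvd_mul_right (p : ℤ) ((S.A y).coeff (z * e)))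
      rw [show 1 - (S.A y).coeff (z * e) = 1 + ((p : ℤ) - 1) * (S.A y).coeff (z * e) - (p : ℤ) * (S.A y).coeff (z * e) by ring]
      exact h
    rw [hyA] at h01
    by_contra hne
    rw [if_neg hne, sub_zero] at h01
    exact hp.ne_one (Nat.dvd_one.1 (by exact_mod_cast h01))
  intro x c e he hc
  by_cases h : p ∣ orderOf (c ^ p)
  · exact hsame x c e he h
  obtain ⟨k, hk⟩ := exists_pow_eq_self_of_coprime (hp.coprime_iff_not_dvd.2 h)
  obtain ⟨z, hz⟩ : ∃ z, z = (c ^ p) ^ k := ⟨_, rfl⟩
  have hzp : z ^ p = c ^ p := by rw [hz, pow_right_comm, hk]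
  have hz1 : z ≠ 1 := fun h => hc (by rw [← hzp, h, one_pow])
  have hzm : z ^ m' = 1 := by
    have h1 : orderOf (c ^ p) ∣ m' :=
      (Nat.Coprime.pow_right a (hp.coprime_iff_not_dvd.2 h).symm).dvd_of_dvd_mul_left (hcard ▸ orderOf_dvd_natCard (c ^ p))
    rw [hz, pow_right_comm, orderOf_dvd_iff_pow_eq_one.1 h1, one_pow]
  have h0 : (z⁻¹ * c) ^ p = 1 := by rw [mul_pow, inv_pow, hzp, inv_mul_cancel]
  have e1 := hfib x z (z⁻¹ * c * e) hzm hz1 (by rw [mul_pow, h0, he, one_mul])
  have e2 := hfib x z (z⁻¹ * c) hzm hz1 h0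
  rw [← mul_assoc, mul_inv_cancel_left] at e1
  rw [mul_inv_cancel_left] at e2
  rw [e1, e2]

end SRing

end Cfsg.Agent.PermGp.DihedralRing
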